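import Mathlib

/-!
# Gram matrices of integer vectors: determinant certificates (helper735)

* `isSquare_det` : the Gram matrix of `m` integer vectors with at most `m` coordinates has square determinant;
* `det_eq_zero` : with less than `m` coordinates it is singular;
* `no_rows` : no completion by at most `e + t` rows, if the Schur complements pass a kernel-checkable test;
* `card_gt` : the form for a set of characters with some known rows and disjoint sign functions.
-/

set_option autoImplicit false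
set_option linter.unusedSectionVars false

namespace Cfsg.Agent.H735.Gram

open Matrix Finset

section Det

variable {ι κ : Type*} [Fintype ι] [DecidableEq ι] [Fintype κ]

theorem gram_nonneg (V : Matrix ι κ ℤ) (x : ι → ℤ) : 0 ≤ x ⬝ᵥ ((V * Vᵀ) *ᵥ x) := by
  rw [← Matrix.mulVec_mulVec, Matrix.dotProduct_mulVec, ← Matrix.mulVec_transpose]
  exact Finset.sum_nonneg fun i _ => mul_self_nonneg _

/-- padding a matrix with zero columns -/
theorem exists_pad (V : Matrix ι κ ℤ) (h : Fintype.card κ ≤ Fintype.card ι) :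
    ∃ W : Matrix ι ι ℤ, W * Wᵀ = V * Vᵀ ∧ (Fintype.card κ < Fintype.card ι → W.det = 0) := by
  classical
  obtain ⟨f⟩ := Function.Embedding.nonempty_of_card_le h
  obtain ⟨P, hPd⟩ : ∃ P : Matrix κ ι ℤ, ∀ k j, P k j = if f k = j then 1 else 0 :=
    ⟨Matrix.of fun k j => if f k = j then 1 else 0, fun k j => rfl⟩
  have hP : P * Pᵀ = 1 := by
    ext a b
    rw [Matrix.mul_apply, Finset.sum_eq_single (f a)]
    · rw [Matrix.transpose_apply, hPd, hPd, if_pos rfl, one_mul, Matrix.one_apply]
      by_cases e : a = b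
      · rw [if_pos e, if_pos (by rw [e])]
      · rw [if_neg e, if_neg fun e2 => e (f.injective e2.symm)]
    · intro j _ hj
      rw [hPd, if_neg (Ne.symm hj), zero_mul]
    · intro h; exact absurd (Finset.mem_univ _) h
  refine ⟨V * P, ?_, fun hlt => ?_⟩
  · rw [Matrix.transpose_mul, Matrix.mul_assoc, ← Matrix.mul_assoc P, hP, Matrix.one_mul]
  · obtain ⟨j, hj⟩ : ∃ j, j ∉ Set.range f := by
      by_contra hcon
      push Not at hcon
      have h2 := Fintype.card_le_of_surjective f hcon
      omega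
    apply Matrix.det_eq_zero_of_column_eq_zero j
    intro i
    rw [Matrix.mul_apply]
    apply Finset.sum_eq_zero
    intro k _
    rw [hPd, if_neg fun e => hj ⟨k, e⟩, mul_zero]

/-- the Gram matrix of `m` integer vectors with at most `m` coordinates has square determinant -/
theorem isSquare_det (V : Matrix ι κ ℤ) (h : Fintype.card κ ≤ Fintype.card ι) : IsSquare (V * Vᵀ).det := by
  obtain ⟨W, hW, -⟩ := exists_pad V h
  rw [← hW, Matrix.det_mul, Matrix.det_transpose]
  exact ⟨_, rfl⟩

/-- the Gram matrix of `m` integer vectors with less than `m` coordinates is singular -/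
theorem det_eq_zero (V : Matrix ι κ ℤ) (h : Fintype.card κ < Fintype.card ι) : (V * Vᵀ).det = 0 := by
  obtain ⟨W, hW, h0⟩ := exists_pad V h.le
  rw [← hW, Matrix.det_mul, h0 h, zero_mul]

/-- Schur complement with an integral multiple of the inverse -/
theorem det_schur {ε τ : Type*} [Fintype ε] [DecidableEq ε] [Fintype τ] [DecidableEq τ] (R A : Matrix ε ε ℤ) (δ : ℤ)
    (hA : R * A = δ • (1 : Matrix ε ε ℤ)) (B : Matrix ε τ ℤ) (C : Matrix τ ε ℤ) (N : Matrix τ τ ℤ) :
    δ ^ Fintype.card τ * (fromBlocks R B C N).det * 1 = R.det * (δ • N - C * A * B).det := by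
  have h1 : fromBlocks R B C N * fromBlocks 1 (-(A * B)) 0 (δ • (1 : Matrix τ τ ℤ)) =
      fromBlocks R 0 C (δ • N - C * A * B) := by
    rw [fromBlocks_multiply]
    congr 1
    · rw [Matrix.mul_one, Matrix.mul_zero, add_zero]
    · rw [Matrix.mul_neg, ← Matrix.mul_assoc, hA, Matrix.smul_mul, Matrix.one_mul, Matrix.mul_smul, Matrix.mul_one,
        neg_add_cancel]
    · rw [Matrix.mul_one, Matrix.mul_zero, add_zero]
    · rw [Matrix.mul_neg, Matrix.mul_smul, Matrix.mul_one, ← Matrix.mul_assoc]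
      abel
  have h2 := congrArg Matrix.det h1
  rw [Matrix.det_mul, det_fromBlocks_zero₂₁, det_fromBlocks_zero₁₂, Matrix.det_one, one_mul, Matrix.det_smul,
    Matrix.det_one, mul_one] at h2
  rw [mul_one, mul_comm, h2]

end Det

section Not

/-- `n` is not a square, by a witness `s` -/
def notSq (n : ℤ) : Bool := decide (n < 0) || (let s := Nat.sqrt n.toNat; decide (s * s ≠ n.toNat))

theorem notSq_spec {n : ℤ} (h : notSq n = true) : ¬ IsSquare n := by
  rintro ⟨x, rfl⟩
  rw [notSq, Bool.or_eq_true, decide_eq_true_iff, decide_eq_true_iff] at h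
  rcases h with h | h
  · exact absurd (mul_self_nonneg x) (not_le.2 h)
  · apply h
    have h1 : (x * x).toNat = x.natAbs * x.natAbs := by
      have h2 : ((x.natAbs * x.natAbs : ℕ) : ℤ) = x * x := Int.natAbs_mul_self
      rw [← h2, Int.toNat_natCast]
    rw [h1, Nat.sqrt_eq]

/-- determinant by expansion along the first row -/
def ldet : (n : ℕ) → (Fin n → Fin n → ℤ) → ℤ
  | 0, _ => 1
  | n + 1, M => ∑ j : Fin (n + 1), (-1) ^ (j : ℕ) * M 0 j * ldet n (fun i k => M i.succ (j.succAbove k))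

theorem ldet_eq (n : ℕ) (M : Fin n → Fin n → ℤ) : ldet n M = Matrix.det (Matrix.of M) := by
  induction n with
  | zero => simp [ldet]
  | succ n ih =>
    rw [ldet, Matrix.det_succ_row_zero]
    refine Finset.sum_congr rfl fun j _ => ?_
    rw [ih]
    rfl

/-- all tuples of length `t` of sum at most `s` -/
def box : ℕ → ℕ → List (List ℕ)
  | 0, _ => [[]]
  | t + 1, s => (List.range (s + 1)).flatMap fun a => (box t (s - a)).map (List.cons a)

theorem mem_box : ∀ (t s : ℕ) (n : Fin t → ℕ), ∑ i, n i ≤ s → List.ofFn n ∈ box t s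
  | 0, s, n, _ => by simp [box]
  | t + 1, s, n, h => by
    rw [Fin.sum_univ_succ] at h
    rw [box, List.mem_flatMap]
    refine ⟨n 0, List.mem_range.2 (by omega), ?_⟩
    rw [List.ofFn_succ]
    exact List.mem_map.2 ⟨_, mem_box t (s - n 0) (fun i => n i.succ) (by omega), rfl⟩

end Not

section Main

variable {e t : ℕ}

/-- the Schur complement of the Gram matrix, times `δ` -/
def sch (A : Fin e → Fin e → ℤ) (T : Fin t → Fin e → ℤ) (δ : ℤ) (n : Fin t → ℤ) : Fin t → Fin t → ℤ :=
  fun i j => (if i = j then δ * n i else 0) - ∑ l, (∑ k, T i k * A k l) * T j l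

/-- the boolean test: for all `n` with sum at most `s`, `δ ^ t * det R * det (δ N - T A Tᵀ)` is not a square -/
def chk (A : Fin e → Fin e → ℤ) (T : Fin t → Fin e → ℤ) (δ dR : ℤ) (s : ℕ) : Bool :=
  (box t s).all fun n => notSq (δ ^ t * dR * ldet t (sch A T δ (fun i => ((n.getD i 0 : ℕ) : ℤ))))

/-- the boolean test of nonsingularity -/
def chk0 (A : Fin e → Fin e → ℤ) (T : Fin t → Fin e → ℤ) (δ : ℤ) (s : ℕ) : Bool :=
  (box t s).all fun n => decide (ldet t (sch A T δ (fun i => ((n.getD i 0 : ℕ) : ℤ))) ≠ 0)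

theorem getD_ofFn (n : Fin t → ℕ) (i : Fin t) : (List.ofFn n).getD i 0 = n i := by
  rw [List.getD_eq_getElem?_getD, List.getElem?_ofFn]
  simp

variable {U : Type*} [Fintype U] (Q : U → Fin e → ℤ) (a : Fin t → U → ℤ) (R A : Fin e → Fin e → ℤ)
  (T : Fin t → Fin e → ℤ) (δ : ℤ)

/-- the matrix of the `e + t` vectors -/
def vmat : Matrix (Fin e ⊕ Fin t) U ℤ := Matrix.of fun i u => Sum.elim (fun j => Q u j) (fun j => a j u) i

theorem gram_eq (hR : ∀ i j, ∑ u, Q u i * Q u j = R i j) (hT : ∀ i j, ∑ u, a i u * Q u j = T i j) (n : Fin t → ℤ)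
    (hn : ∀ i, ∑ u, a i u * a i u = n i) (hd : ∀ u i j, i ≠ j → a i u = 0 ∨ a j u = 0) :
    vmat Q a * (vmat Q a)ᵀ = fromBlocks (Matrix.of R) (Matrix.of T)ᵀ (Matrix.of T)
      (Matrix.diagonal n) := by
  ext i j
  rw [Matrix.mul_apply]
  rcases i with i | i <;> rcases j with j | j
  · exact hR i j
  · rw [fromBlocks_apply₁₂, Matrix.transpose_apply, Matrix.of_apply, ← hT j i]
    exact Finset.sum_congr rfl fun u _ => mul_comm _ _
  · exact hT i j
  · rw [fromBlocks_apply₂₂]
    by_cases h : i = j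
    · subst h
      rw [Matrix.diagonal_apply_eq]
      exact hn i
    · rw [Matrix.diagonal_apply_ne _ h]
      apply Finset.sum_eq_zero
      intro u _
      show a i u * a j u = 0
      rcases hd u i j h with h | h <;> rw [h] <;> simp

theorem sch_eq (n : Fin t → ℤ) : δ • Matrix.diagonal n - Matrix.of T * Matrix.of A * (Matrix.of T)ᵀ =
    Matrix.of (sch A T δ n) := by
  ext i j
  rw [Matrix.sub_apply, Matrix.smul_apply, Matrix.mul_apply, Matrix.of_apply, sch, Matrix.diagonal_apply]
  congr 1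
  · split_ifs with h
    · rfl
    · exact smul_zero _

theorem sum_sq_le (hd : ∀ u i j, i ≠ j → a i u = 0 ∨ a j u = 0) :
    ∑ i, ((univ.filter fun u => a i u ≠ 0).card) ≤ Fintype.card U := by
  classical
  rw [← Finset.card_biUnion]
  · exact Finset.card_le_univ _
  · intro i _ j _ hij
    rw [Function.onFun, Finset.disjoint_filter]
    intro u _ h1 h2
    rcases hd u i j hij with h | h
    · exact h1 h
    · exact h2 h

theorem sum_sq_eq (ha : ∀ i u, a i u = 0 ∨ a i u = 1 ∨ a i u = -1) (i : Fin t) :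
    ∑ u, a i u * a i u = (((univ.filter fun u => a i u ≠ 0).card : ℕ) : ℤ) := by
  rw [Finset.card_filter, Nat.cast_sum]
  refine Finset.sum_congr rfl fun u _ => ?_
  rcases ha i u with h | h | h <;> rw [h] <;> simp

/-- no set of at most `e + t` rows -/
theorem no_rows (hR : ∀ i j, ∑ u, Q u i * Q u j = R i j) (hT : ∀ i j, ∑ u, a i u * Q u j = T i j)
    (ha : ∀ i u, a i u = 0 ∨ a i u = 1 ∨ a i u = -1) (hd : ∀ u i j, i ≠ j → a i u = 0 ∨ a j u = 0)
    {s : ℕ} (hs : s ≤ e + t) (hU : Fintype.card U ≤ s) (hA : ∀ i j, ∑ k, R i k * A k j = if i = j then δ else 0)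
    (hc : chk A T δ (ldet e R) s = true) : False := by
  classical
  let n : Fin t → ℕ := fun i => (univ.filter fun u => a i u ≠ 0).card
  have hn : ∑ i, n i ≤ s := (sum_sq_le a hd).trans hU
  have h1 := List.all_eq_true.1 hc _ (mem_box t s n hn)
  apply notSq_spec h1
  have h2 := isSquare_det (vmat Q a) (by rw [Fintype.card_sum, Fintype.card_fin, Fintype.card_fin]; omega)
  rw [gram_eq Q a R T hR hT (fun i => (n i : ℤ)) (fun i => sum_sq_eq a ha i) hd] at h2
  have hA' : Matrix.of R * Matrix.of A = δ • (1 : Matrix (Fin e) (Fin e) ℤ) := by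
    ext i j
    rw [Matrix.mul_apply, Matrix.smul_apply, Matrix.one_apply]
    refine (hA i j).trans ?_
    split_ifs <;> simp
  have h3 := det_schur (Matrix.of R) (Matrix.of A) δ hA' (Matrix.of T)ᵀ (Matrix.of T) (Matrix.diagonal fun i => (n i : ℤ))
  rw [sch_eq, Fintype.card_fin, mul_one, ← ldet_eq, ← ldet_eq] at h3
  obtain ⟨x, hx⟩ := h2
  rw [hx] at h3
  have h4 : (fun i : Fin t => (((List.ofFn n).getD i 0 : ℕ) : ℤ)) = fun i => (n i : ℤ) := by
    funext i
    rw [getD_ofFn]
  rw [h4, mul_assoc, ← h3]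
  exact ⟨δ ^ t * x, by ring⟩

/-- no set of less than `e + t` rows -/
theorem no_rows_lt {s : ℕ} (hR : ∀ i j, ∑ u, Q u i * Q u j = R i j) (hT : ∀ i j, ∑ u, a i u * Q u j = T i j)
    (ha : ∀ i u, a i u = 0 ∨ a i u = 1 ∨ a i u = -1) (hd : ∀ u i j, i ≠ j → a i u = 0 ∨ a j u = 0)
    (hs : s < e + t) (hU : Fintype.card U ≤ s) (hA : ∀ i j, ∑ k, R i k * A k j = if i = j then δ else 0)
    (hR0 : ldet e R ≠ 0) (hc : chk0 A T δ s = true) : False := by
  classical
  let n : Fin t → ℕ := fun i => (univ.filter fun u => a i u ≠ 0).card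
  have hn : ∑ i, n i ≤ s := (sum_sq_le a hd).trans hU
  have h1 := List.all_eq_true.1 hc _ (mem_box t s n hn)
  rw [decide_eq_true_iff] at h1
  have h2 := det_eq_zero (vmat Q a) (by rw [Fintype.card_sum, Fintype.card_fin, Fintype.card_fin]; omega)
  rw [gram_eq Q a R T hR hT (fun i => (n i : ℤ)) (fun i => sum_sq_eq a ha i) hd] at h2
  have hA' : Matrix.of R * Matrix.of A = δ • (1 : Matrix (Fin e) (Fin e) ℤ) := by
    ext i j
    rw [Matrix.mul_apply, Matrix.smul_apply, Matrix.one_apply]
    refine (hA i j).trans ?_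
    split_ifs <;> simp
  have h3 := det_schur (Matrix.of R) (Matrix.of A) δ hA' (Matrix.of T)ᵀ (Matrix.of T) (Matrix.diagonal fun i => (n i : ℤ))
  rw [sch_eq, Fintype.card_fin, mul_one, ← ldet_eq, ← ldet_eq, h2, mul_zero] at h3
  have h4 : (fun i : Fin t => (((List.ofFn n).getD i 0 : ℕ) : ℤ)) = fun i => (n i : ℤ) := by
    funext i
    rw [getD_ofFn]
  rw [h4] at h1
  rcases mul_eq_zero.1 h3.symm with h | h
  · exact hR0 h
  · exact h1 h

end Main

section Block

variable {e t r s : ℕ} {X : Type*} [DecidableEq X] {B : Finset X} {q : X → Fin e → ℤ} {a : Fin t → X → ℤ}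
  {G0 R A : Fin e → Fin e → ℤ} {T : Fin t → Fin e → ℤ} {δ : ℤ} {κ : Fin r → X} {K : Fin r → Fin e → ℤ}
  {E : Fin t → Fin r → ℤ}

theorem sum_rest (hκ : Function.Injective κ) (hκB : ∀ s, κ s ∈ B) (f : X → ℤ) :
    ∑ u ∈ B \ univ.image κ, f u = ∑ x ∈ B, f x - ∑ s, f (κ s) := by
  have hsub : univ.image κ ⊆ B := by
    intro x hx
    obtain ⟨s, -, rfl⟩ := Finset.mem_image.1 hx
    exact hκB s
  rw [← Finset.sum_sdiff hsub, Finset.sum_image fun i _ j _ h => hκ h]
  ring

theorem card_rest (hκ : Function.Injective κ) (hκB : ∀ s, κ s ∈ B) : (B \ univ.image κ).card = B.card - r := by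
  rw [Finset.card_sdiff_of_subset, Finset.card_image_of_injective _ hκ, Finset.card_univ, Fintype.card_fin]
  intro x hx
  obtain ⟨s, -, rfl⟩ := Finset.mem_image.1 hx
  exact hκB s

/-- A set `B` of characters with integer rows `q` (columns orthogonal to the disjoint sign functions `a i`, Gram matrix
`G0` of the columns) and `r` known rows has more than `r + s` elements. -/
theorem card_gt (hq : ∀ i j, ∑ x ∈ B, q x i * q x j = G0 i j) (h0 : ∀ i j, ∑ x ∈ B, a i x * q x j = 0)
    (ha : ∀ i, ∀ x ∈ B, a i x = 0 ∨ a i x = 1 ∨ a i x = -1) (hd : ∀ x ∈ B, ∀ i j, i ≠ j → a i x = 0 ∨ a j x = 0)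
    (hκ : Function.Injective κ) (hκB : ∀ s, κ s ∈ B) (hK : ∀ s j, q (κ s) j = K s j) (hE : ∀ i s, a i (κ s) = E i s)
    (hR : ∀ i j, G0 i j - ∑ s, K s i * K s j = R i j) (hT : ∀ i j, 0 - ∑ s, E i s * K s j = T i j)
    (hA : ∀ i j, ∑ k, R i k * A k j = if i = j then δ else 0) (hs : s ≤ e + t)
    (hc : chk A T δ (ldet e R) s = true) : r + s < B.card := by
  by_contra hcon
  have hc1 := card_rest hκ hκB
  have key : ∀ C : Finset X, C = B \ univ.image κ → False := by
    intro C hC
    have hCB : ∀ x ∈ C, x ∈ B := fun x hx => by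
      rw [hC] at hx
      exact (Finset.mem_sdiff.1 hx).1
    refine no_rows (U := C) (fun u j => q u j) (fun i u => a i u) R A T δ ?_ ?_ ?_ ?_ hs ?_ hA hc
    · intro i j
      rw [Finset.sum_coe_sort C fun x => q x i * q x j, hC, sum_rest hκ hκB fun x => q x i * q x j, hq, ← hR]
      simp only [hK]
    · intro i j
      rw [Finset.sum_coe_sort C fun x => a i x * q x j, hC, sum_rest hκ hκB fun x => a i x * q x j, h0, ← hT]
      simp only [hK, hE]
    · intro i u
      exact ha i u (hCB u u.2)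
    · intro u i j hij
      exact hd u (hCB u u.2) i j hij
    · rw [Fintype.card_coe, hC, hc1]
      omega
  exact key _ rfl

/-- the same with singular Gram matrices -/
theorem card_gt_lt (hq : ∀ i j, ∑ x ∈ B, q x i * q x j = G0 i j) (h0 : ∀ i j, ∑ x ∈ B, a i x * q x j = 0)
    (ha : ∀ i, ∀ x ∈ B, a i x = 0 ∨ a i x = 1 ∨ a i x = -1) (hd : ∀ x ∈ B, ∀ i j, i ≠ j → a i x = 0 ∨ a j x = 0)
    (hκ : Function.Injective κ) (hκB : ∀ s, κ s ∈ B) (hK : ∀ s j, q (κ s) j = K s j) (hE : ∀ i s, a i (κ s) = E i s)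
    (hR : ∀ i j, G0 i j - ∑ s, K s i * K s j = R i j) (hT : ∀ i j, 0 - ∑ s, E i s * K s j = T i j)
    (hA : ∀ i j, ∑ k, R i k * A k j = if i = j then δ else 0) (hs : s < e + t) (hR0 : ldet e R ≠ 0)
    (hc : chk0 A T δ s = true) : r + s < B.card := by
  by_contra hcon
  have hc1 := card_rest hκ hκB
  have key : ∀ C : Finset X, C = B \ univ.image κ → False := by
    intro C hC
    have hCB : ∀ x ∈ C, x ∈ B := fun x hx => by
      rw [hC] at hx
      exact (Finset.mem_sdiff.1 hx).1
    refine no_rows_lt (U := C) (fun u j => q u j) (fun i u => a i u) R A T δ ?_ ?_ ?_ ?_ hs ?_ hA hR0 hc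
    · intro i j
      rw [Finset.sum_coe_sort C fun x => q x i * q x j, hC, sum_rest hκ hκB fun x => q x i * q x j, hq, ← hR]
      simp only [hK]
    · intro i j
      rw [Finset.sum_coe_sort C fun x => a i x * q x j, hC, sum_rest hκ hκB fun x => a i x * q x j, h0, ← hT]
      simp only [hK, hE]
    · intro i u
      exact ha i u (hCB u u.2)
    · intro u i j hij
      exact hd u (hCB u u.2) i j hij
    · rw [Fintype.card_coe, hC, hc1]
      omega
  exact key _ rfl

end Block

end Cfsg.Agent.H735.Gram
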