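import Cfsg.Agent.H735.Gram.Gram

/-!
# Gram matrices of integer vectors, 2 (helper735): tests with signs, forms for sets of characters

* `no_rows2` : as `no_rows`, with the additional test "a diagonal entry of the Schur complement is negative";
* `no_rows_neg` : the residual Gram matrix is not positive semidefinite;
* `card_gt_set`, `card_gt_lt_set` : the certificate theorems for `∑ᶠ χ ∈ S` and `Nat.card S`.
-/

set_option autoImplicit false
set_option linter.unusedSectionVars false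

namespace Cfsg.Agent.H735.Gram

open Matrix Finset

section

variable {e t : ℕ} {U : Type*} [Fintype U] (Q : U → Fin e → ℤ) (a : Fin t → U → ℤ) (R A : Fin e → Fin e → ℤ)
  (T : Fin t → Fin e → ℤ) (δ : ℤ)

/-- a Schur complement `M` of a Gram matrix is excluded -/
def tst {t : ℕ} (δ dR : ℤ) (M : Fin t → Fin t → ℤ) : Bool :=
  notSq (δ ^ t * dR * ldet t M) || (decide (0 < δ) && (List.finRange t).any fun i => decide (M i i < 0))

/-- the boolean test with signs -/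
def chk2 (A : Fin e → Fin e → ℤ) (T : Fin t → Fin e → ℤ) (δ dR : ℤ) (s : ℕ) : Bool :=
  (box t s).all fun n => tst δ dR (sch A T δ (fun i => ((n.getD i 0 : ℕ) : ℤ)))

theorem sch_nonneg (hA : Matrix.of R * Matrix.of A = δ • (1 : Matrix (Fin e) (Fin e) ℤ)) (n : Fin t → ℤ)
    (hV : vmat Q a * (vmat Q a)ᵀ = fromBlocks (Matrix.of R) (Matrix.of T)ᵀ (Matrix.of T) (Matrix.diagonal n))
    (i : Fin t) : 0 ≤ δ * sch A T δ n i i := by
  let w : Fin e → ℤ := (Matrix.of T)ᵀ *ᵥ Pi.single i 1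
  have h := gram_nonneg (vmat Q a) (Sum.elim (-(Matrix.of A *ᵥ w)) (δ • Pi.single i 1))
  rw [hV, fromBlocks_mulVec] at h
  have e1 : (Sum.elim (-(Matrix.of A *ᵥ w)) (δ • Pi.single i (1 : ℤ)) : Fin e ⊕ Fin t → ℤ) ∘ Sum.inl =
      -(Matrix.of A *ᵥ w) := rfl
  have e2 : (Sum.elim (-(Matrix.of A *ᵥ w)) (δ • Pi.single i (1 : ℤ)) : Fin e ⊕ Fin t → ℤ) ∘ Sum.inr =
      δ • Pi.single i (1 : ℤ) := rfl
  rw [e1, e2] at h
  have e3 : Matrix.of R *ᵥ (-(Matrix.of A *ᵥ w)) + (Matrix.of T)ᵀ *ᵥ (δ • Pi.single i (1 : ℤ)) = 0 := by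
    rw [Matrix.mulVec_neg, Matrix.mulVec_mulVec, hA, Matrix.smul_mulVec, Matrix.one_mulVec, Matrix.mulVec_smul,
      neg_add_cancel]
  have e4 : Matrix.of T *ᵥ (-(Matrix.of A *ᵥ w)) + Matrix.diagonal n *ᵥ (δ • Pi.single i (1 : ℤ)) =
      Matrix.of (sch A T δ n) *ᵥ Pi.single i (1 : ℤ) := by
    rw [← sch_eq, Matrix.sub_mulVec, Matrix.smul_mulVec, Matrix.mulVec_smul, ← Matrix.mulVec_mulVec,
      ← Matrix.mulVec_mulVec, Matrix.mulVec_neg]
    abel
  rw [e3, e4, sumElim_dotProduct_sumElim, dotProduct_zero, zero_add, smul_dotProduct, single_one_dotProduct,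
    Matrix.mulVec_single_one, Matrix.col_apply, Matrix.of_apply, smul_eq_mul] at h
  exact h

/-- no set of at most `e + t` rows -/
theorem no_rows2 (hR : ∀ i j, ∑ u, Q u i * Q u j = R i j) (hT : ∀ i j, ∑ u, a i u * Q u j = T i j)
    (ha : ∀ i u, a i u = 0 ∨ a i u = 1 ∨ a i u = -1) (hd : ∀ u i j, i ≠ j → a i u = 0 ∨ a j u = 0)
    {s : ℕ} (hs : s ≤ e + t) (hU : Fintype.card U ≤ s) (hA : ∀ i j, ∑ k, R i k * A k j = if i = j then δ else 0)
    (hc : chk2 A T δ (ldet e R) s = true) : False := by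
  classical
  let n : Fin t → ℕ := fun i => (univ.filter fun u => a i u ≠ 0).card
  have hn : ∑ i, n i ≤ s := (sum_sq_le a hd).trans hU
  have h1 := List.all_eq_true.1 hc _ (mem_box t s n hn)
  have h4 : (fun i : Fin t => (((List.ofFn n).getD i 0 : ℕ) : ℤ)) = fun i => (n i : ℤ) := by
    funext i
    rw [getD_ofFn]
  rw [h4, tst, Bool.or_eq_true, Bool.and_eq_true, decide_eq_true_iff, List.any_eq_true] at h1
  have hA' : Matrix.of R * Matrix.of A = δ • (1 : Matrix (Fin e) (Fin e) ℤ) := by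
    ext i j
    rw [Matrix.mul_apply, Matrix.smul_apply, Matrix.one_apply]
    refine (hA i j).trans ?_
    split_ifs <;> simp
  have hV := gram_eq Q a R T hR hT (fun i => (n i : ℤ)) (fun i => sum_sq_eq a ha i) hd
  rcases h1 with h1 | ⟨hδ, i, -, h1⟩
  · apply notSq_spec h1
    have h2 := isSquare_det (vmat Q a) (by rw [Fintype.card_sum, Fintype.card_fin, Fintype.card_fin]; omega)
    rw [hV] at h2
    have h3 := det_schur (Matrix.of R) (Matrix.of A) δ hA' (Matrix.of T)ᵀ (Matrix.of T)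
      (Matrix.diagonal fun i => (n i : ℤ))
    rw [sch_eq, Fintype.card_fin, mul_one, ← ldet_eq, ← ldet_eq] at h3
    obtain ⟨x, hx⟩ := h2
    rw [hx] at h3
    rw [mul_assoc, ← h3]
    exact ⟨δ ^ t * x, by ring⟩
  · rw [decide_eq_true_iff] at h1
    have h5 := sch_nonneg Q a R A T δ hA' (fun i => (n i : ℤ)) hV i
    have h6 := mul_neg_of_pos_of_neg hδ h1
    omega

/-- the residual Gram matrix is positive semidefinite -/
theorem no_rows_neg (hR : ∀ i j, ∑ u, Q u i * Q u j = R i j) (x : Fin e → ℤ) :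
    0 ≤ ∑ i, ∑ j, x i * x j * R i j := by
  have h : ∑ i, ∑ j, x i * x j * R i j = ∑ u, (∑ i, x i * Q u i) * ∑ j, x j * Q u j := by
    simp only [Finset.sum_mul_sum]
    symm
    rw [Finset.sum_comm]
    refine Finset.sum_congr rfl fun i _ => ?_
    rw [Finset.sum_comm]
    refine Finset.sum_congr rfl fun j _ => ?_
    rw [← hR, Finset.mul_sum]
    refine Finset.sum_congr rfl fun u _ => ?_
    ring
  rw [h]
  exact Finset.sum_nonneg fun u _ => mul_self_nonneg _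

end

section Sets

variable {e t r s : ℕ} {X : Type*} [Finite X] {S : Set X} {q : X → Fin e → ℤ} {a : Fin t → X → ℤ}
  {G0 R A : Fin e → Fin e → ℤ} {T : Fin t → Fin e → ℤ} {δ : ℤ} {κ : Fin r → X} {K : Fin r → Fin e → ℤ}
  {E : Fin t → Fin r → ℤ}

theorem finsum_eq (S : Set X) (f : X → ℤ) : ∑ᶠ x ∈ S, f x = ∑ x ∈ S.toFinite.toFinset, f x :=
  finsum_mem_eq_finite_toFinset_sum _ _

theorem natCard_eq (S : Set X) : Nat.card S = S.toFinite.toFinset.card :=
  Nat.card_eq_card_finite_toFinset _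

/-- `card_gt` for sets -/
theorem card_gt_set (hq : ∀ i j, ∑ᶠ x ∈ S, q x i * q x j = G0 i j) (h0 : ∀ i j, ∑ᶠ x ∈ S, a i x * q x j = 0)
    (ha : ∀ i, ∀ x ∈ S, a i x = 0 ∨ a i x = 1 ∨ a i x = -1) (hd : ∀ x ∈ S, ∀ i j, i ≠ j → a i x = 0 ∨ a j x = 0)
    (hκ : Function.Injective κ) (hκB : ∀ s, κ s ∈ S) (hK : ∀ s j, q (κ s) j = K s j) (hE : ∀ i s, a i (κ s) = E i s)
    (hR : ∀ i j, G0 i j - ∑ s, K s i * K s j = R i j) (hT : ∀ i j, 0 - ∑ s, E i s * K s j = T i j)
    (hA : ∀ i j, ∑ k, R i k * A k j = if i = j then δ else 0) (hs : s ≤ e + t)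
    (hc : chk A T δ (ldet e R) s = true) : r + s < Nat.card S := by
  classical
  rw [natCard_eq]
  refine card_gt (fun i j => by rw [← finsum_eq]; exact hq i j) (fun i j => by rw [← finsum_eq]; exact h0 i j)
    (fun i x hx => ha i x (S.toFinite.mem_toFinset.1 hx)) (fun x hx => hd x (S.toFinite.mem_toFinset.1 hx)) hκ
    (fun s => S.toFinite.mem_toFinset.2 (hκB s)) hK hE hR hT hA hs hc

/-- `card_gt_lt` for sets -/
theorem card_gt_lt_set (hq : ∀ i j, ∑ᶠ x ∈ S, q x i * q x j = G0 i j) (h0 : ∀ i j, ∑ᶠ x ∈ S, a i x * q x j = 0)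
    (ha : ∀ i, ∀ x ∈ S, a i x = 0 ∨ a i x = 1 ∨ a i x = -1) (hd : ∀ x ∈ S, ∀ i j, i ≠ j → a i x = 0 ∨ a j x = 0)
    (hκ : Function.Injective κ) (hκB : ∀ s, κ s ∈ S) (hK : ∀ s j, q (κ s) j = K s j) (hE : ∀ i s, a i (κ s) = E i s)
    (hR : ∀ i j, G0 i j - ∑ s, K s i * K s j = R i j) (hT : ∀ i j, 0 - ∑ s, E i s * K s j = T i j)
    (hA : ∀ i j, ∑ k, R i k * A k j = if i = j then δ else 0) (hs : s < e + t) (hR0 : ldet e R ≠ 0)
    (hc : chk0 A T δ s = true) : r + s < Nat.card S := by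
  classical
  rw [natCard_eq]
  refine card_gt_lt (fun i j => by rw [← finsum_eq]; exact hq i j) (fun i j => by rw [← finsum_eq]; exact h0 i j)
    (fun i x hx => ha i x (S.toFinite.mem_toFinset.1 hx)) (fun x hx => hd x (S.toFinite.mem_toFinset.1 hx)) hκ
    (fun s => S.toFinite.mem_toFinset.2 (hκB s)) hK hE hR hT hA hs hR0 hc

end Sets

end Cfsg.Agent.H735.Gram
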