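import Cfsg.Agent.H735.Gram.Gram

/-!
# S4879: the arithmetic of the Monster, `p = 11`, `r = 17` (helper735)

`m_card` : a set `B` of characters with integer rows `q x ∈ ℤ⁵`, columns of Gram matrix `11 (1 + 2 J)`, seven known
rows, and three sign functions of disjoint supports orthogonal to the columns, has at least 16 elements.
-/

set_option autoImplicit false

namespace Cfsg.Agent.H735.Gram

open Finset

/-- the known rows: degrees 1, 196883, 842609326, 36173193327999, 1109944460516150, 251098487132187500, "473.." -/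
def mK : Fin 7 → Fin 5 → ℤ :=
  ![![1, 0, 0, 0, 0], ![1, 1, 1, 1, 1], ![-1, 0, -1, 0, 0], ![1, 0, 0, 0, 1], ![1, 2, 1, 1, 1], ![1, 0, 0, 1, 1],
    ![-1, 0, -1, -1, -1]]

/-- the known signs for `r = 17`, `C(17A) = 17 × L₃(2)`, characters of degree 1, 8, 6 of `L₃(2)` -/
def mE : Fin 3 → Fin 7 → ℤ :=
  ![![1, 0, 0, 0, 1, -1, 0], ![0, 0, 1, 0, 0, 0, 0], ![0, 1, 0, 0, 0, 0, 0]]

def mR : Fin 5 → Fin 5 → ℤ :=
  ![![26, 19, 18, 18, 17], ![19, 28, 19, 19, 19], ![18, 19, 29, 19, 19], ![18, 19, 19, 29, 18], ![17, 19, 19, 18, 28]]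

def mA : Fin 5 → Fin 5 → ℤ :=
  ![![76049, -24681, -14608, -15559, -9510], ![-24681, 77450, -13129, -15029, -19000],
    ![-14608, -13129, 67089, -15082, -18051], ![-15559, -15029, -15082, 64148, -11359],
    ![-9510, -19000, -18051, -11359, 66920]]

def mT : Fin 3 → Fin 5 → ℤ := ![![-1, -2, -1, 0, 0], ![1, 0, 1, 0, 0], ![-1, -1, -1, -1, -1]]

theorem m_R : ∀ i j, (11 * ((if i = j then 1 else 0) + 2) : ℤ) - ∑ s, mK s i * mK s j = mR i j := by decide +kernel

theorem m_T : ∀ i j, 0 - ∑ s, mE i s * mK s j = mT i j := by decide +kernel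

theorem m_A : ∀ i j, ∑ k, mR i k * mA k j = if i = j then 803659 else 0 := by decide +kernel

theorem m_chk : chk mA mT 803659 (ldet 5 mR) 8 = true := by decide +kernel

theorem m_card {X : Type*} [DecidableEq X] {B : Finset X} {q : X → Fin 5 → ℤ} {a : Fin 3 → X → ℤ} {κ : Fin 7 → X}
    (hq : ∀ i j, ∑ x ∈ B, q x i * q x j = 11 * ((if i = j then 1 else 0) + 2))
    (h0 : ∀ i j, ∑ x ∈ B, a i x * q x j = 0)
    (ha : ∀ i, ∀ x ∈ B, a i x = 0 ∨ a i x = 1 ∨ a i x = -1) (hd : ∀ x ∈ B, ∀ i j, i ≠ j → a i x = 0 ∨ a j x = 0)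
    (hκ : Function.Injective κ) (hκB : ∀ s, κ s ∈ B) (hK : ∀ s j, q (κ s) j = mK s j) (hE : ∀ i s, a i (κ s) = mE i s) :
    16 ≤ B.card :=
  card_gt hq h0 ha hd hκ hκB hK hE m_R m_T m_A (by norm_num) m_chk

end Cfsg.Agent.H735.Gram
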