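import Cfsg.Agent.H735.Gram.Gram2
import Cfsg.Agent.H34.LB.MDef

/-!
# S4879, the Monster, `p = 11`: the verified search (helper735)

`mnum_of` : the statement `MNum` (for any row of values `g2`) from two kernel computations: the enumeration of the
candidates for each of the seven known rows, and a certificate tree.
-/

set_option autoImplicit false
set_option linter.unusedSectionVars false

namespace Cfsg.Agent.H735.Gram.MN

open Finset Cfsg.Agent.H34.LB

abbrev Row := Fin 5 → ℤ

/-- a literal matrix -/
def fn2 {m n : ℕ} (L : List (List ℤ)) : Fin m → Fin n → ℤ := fun i j => (L.getD i []).getD j 0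

/-- the Gram matrix -/
def G (i j : Fin 5) : ℤ := 11 * ((if i = j then 1 else 0) + 2)

/-- the residual Gram matrix -/
def rest (kn : List Row) (i j : Fin 5) : ℤ := G i j - (kn.map fun r => r i * r j).sum

def quad (kn : List Row) (x : Row) : ℤ := ∑ i, ∑ j, x i * x j * rest kn i j

/-- certificate trees; the children of a node form a `cons`/`nil` spine (no nested inductive type) -/
inductive Cert
  | neg (x : List ℤ)
  | leaf (R T A S : List (List ℤ)) (δ : ℤ)
  | nil
  | cons (a l : Cert)

/-- a node with a list of children -/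
def Cert.node : List Cert → Cert
  | [] => .nil
  | a :: l => .cons a (Cert.node l)

/-- the children of a spine -/
def Cert.kids : Cert → List Cert
  | .cons a l => a :: l.kids
  | _ => []

/-- the test for the Schur complements `δ N - S` -/
def chkS (S : Fin 3 → Fin 3 → ℤ) (δ dR : ℤ) (s : ℕ) : Bool :=
  (box 3 s).all fun n => tst δ dR (fun i j => (if i = j then δ * ((n.getD i 0 : ℕ) : ℤ) else 0) - S i j)

def leafB (kn : List Row) (R T A S : List (List ℤ)) (δ : ℤ) : Bool :=
  decide (∀ i j : Fin 5, rest kn i j = fn2 (m := 5) (n := 5) R i j) &&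
  (decide (∀ (i : Fin 3) (j : Fin 5), 0 - ∑ s : Fin 7, ka i s * (kn.getD s 0) j = fn2 (m := 3) (n := 5) T i j) &&
  (decide (∀ i j : Fin 5, ∑ k, fn2 (m := 5) (n := 5) R i k * fn2 (m := 5) (n := 5) A k j = if i = j then δ else 0) &&
  (decide (∀ i j : Fin 3, ∑ l, (∑ k, fn2 (m := 3) (n := 5) T i k * fn2 (m := 5) (n := 5) A k l) *
      fn2 (m := 3) (n := 5) T j l = fn2 (m := 3) (n := 3) S i j) &&
  chkS (fn2 S) δ (ldet 5 (fn2 R)) 8)))

def check : List (List Row) → List Row → Cert → Bool
  | [], kn, t => match t with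
    | .neg x => decide (quad kn (fun i => x.getD i 0) < 0)
    | .leaf R T A S δ => leafB kn R T A S δ
    | .nil => false
    | .cons _ _ => false
  | c :: cs, kn, t => match t with
    | .neg x => decide (quad kn (fun i => x.getD i 0) < 0)
    | .leaf _ _ _ _ _ => false
    | .nil => decide (c.length = 0)
    | .cons a l => decide (c.length = (a :: l.kids).length) &&
        (c.zip (a :: l.kids)).all fun p => check cs (kn ++ [p.1]) p.2

theorem check_sound (full : List Row) (hneg : ∀ pre, pre <+: full → ∀ x, 0 ≤ quad pre x)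
    (hleaf : ∀ R T A S δ, leafB full R T A S δ = true → False) :
    ∀ (cs : List (List Row)) (kn rs : List Row) (t : Cert), kn ++ rs = full → List.Forall₂ (· ∈ ·) rs cs →
      check cs kn t = true → False
  | [], kn, rs, t, h, hf, hc => by
    cases hf
    rw [List.append_nil] at h
    subst h
    cases t with
    | neg x =>
      rw [check, decide_eq_true_iff] at hc
      exact absurd (hneg kn (List.prefix_rfl) _) (not_le.2 hc)
    | leaf R T A S δ => exact hleaf _ _ _ _ _ hc
    | nil => exact absurd hc (by simp [check])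
    | cons a l => exact absurd hc (by simp [check])
  | cl :: cs, kn, rs, t, h, hf, hc => by
    cases t with
    | neg x =>
      rw [check, decide_eq_true_iff] at hc
      exact absurd (hneg kn ⟨rs, h⟩ _) (not_le.2 hc)
    | leaf R T A S δ => exact absurd hc (by simp [check])
    | nil =>
      rw [check, decide_eq_true_iff] at hc
      cases hf with
      | cons hr hrs =>
        rw [List.length_eq_zero_iff.1 hc] at hr
        exact absurd hr (by simp)
    | cons a l' =>
      rw [check, Bool.and_eq_true, decide_eq_true_iff, List.all_eq_true] at hc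
      generalize a :: l'.kids = l at hc
      cases hf with
      | cons hr hrs =>
        rename_i r rs
        obtain ⟨k, hk, hkr⟩ := List.getElem_of_mem hr
        have h1 := hc.2 (cl[k], l[k]'(by rw [← hc.1]; exact hk)) (by
          rw [List.mem_iff_getElem]
          refine ⟨k, by rw [List.length_zip, ← hc.1, min_self]; exact hk, ?_⟩
          rw [List.getElem_zip])
        refine check_sound full hneg hleaf cs (kn ++ [cl[k]]) rs _ ?_ hrs h1
        rw [hkr, List.append_assoc, List.singleton_append]
        exact h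

/-! ## the enumeration of the candidates -/

def near (a b : ℤ) : Bool := decide (a - b ≤ 4) && decide (b - a ≤ 4)

def rng : List ℤ := [-5, -4, -3, -2, -1, 0, 1, 2, 3, 4, 5]

/-- the test for one vector -/
def ok1 (g2 : Fin 5 → ℤ) (cands : List (List Row)) (a b c d e : ℤ) : Bool :=
  !decide (11 * (a * a + b * b + c * c + d * d + e * e) - 2 * ((a + b + c + d + e) * (a + b + c + d + e)) ≤ 121) ||
  (let w1 := a + 45 * b - 54 * c - 120 * d + 144 * e
   let w2 := g2 0 * a + g2 1 * b + g2 2 * c + g2 3 * d + g2 4 * e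
   (List.finRange 7).all fun n => n == 0 || (!decide ((dg n - w1) % 121 = 0) || (!decide ((v2 n - w2) % 11 = 0) ||
     decide (![a, b, c, d, e] ∈ cands.getD n []))))

def enumB (g2 : Fin 5 → ℤ) (cands : List (List Row)) : Bool :=
  rng.all fun a => rng.all fun b => !near a b || rng.all fun c => !(near a c && near b c) ||
    rng.all fun d => !(near a d && (near b d && near c d)) ||
    rng.all fun e => !(near a e && (near b e && (near c e && near d e))) || ok1 g2 cands a b c d e

theorem mem_rng {a : ℤ} (h1 : -5 ≤ a) (h2 : a ≤ 5) : a ∈ rng := by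
  rw [rng]
  interval_cases a <;> simp

theorem near_of {a b : ℤ} (h1 : a - b ≤ 4) (h2 : b - a ≤ 4) : near a b = true := by
  rw [near, Bool.and_eq_true, decide_eq_true_iff, decide_eq_true_iff]
  exact ⟨h1, h2⟩

theorem enum_sound {g2 : Fin 5 → ℤ} {cands : List (List Row)} (h : enumB g2 cands = true) (r : Row)
    (hr : ∀ i, -5 ≤ r i ∧ r i ≤ 5) (hn : ∀ i j, r i - r j ≤ 4)
    (hq : 11 * (∑ i, r i * r i) - 2 * ((∑ i, r i) * ∑ i, r i) ≤ 121) (n : Fin 7) (hn0 : n ≠ 0)
    (h1 : (121 : ℤ) ∣ dg n - ∑ j, r j * f1 j) (h2 : (11 : ℤ) ∣ v2 n - ∑ j, r j * g2 j) :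
    r ∈ cands.getD n [] := by
  have hn' : ∀ i j, near (r i) (r j) = true := fun i j => near_of (hn i j) (hn j i)
  have hm : ∀ i, r i ∈ rng := fun i => mem_rng (hr i).1 (hr i).2
  rw [enumB, List.all_eq_true] at h
  have ha := h _ (hm 0)
  rw [List.all_eq_true] at ha
  have hb := ha _ (hm 1)
  rw [hn', Bool.not_true, Bool.false_or, List.all_eq_true] at hb
  have hc := hb _ (hm 2)
  rw [hn', hn', Bool.and_true, Bool.not_true, Bool.false_or, List.all_eq_true] at hc
  have hd := hc _ (hm 3)
  rw [hn', hn', hn', Bool.and_true, Bool.and_true, Bool.not_true, Bool.false_or, List.all_eq_true] at hd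
  have he := hd _ (hm 4)
  rw [hn', hn', hn', hn', Bool.and_true, Bool.and_true, Bool.and_true, Bool.not_true, Bool.false_or, ok1,
    Bool.or_eq_true] at he
  rcases he with he | he
  · exfalso
    rw [Bool.not_eq_true', decide_eq_false_iff_not] at he
    apply he
    rw [Fin.sum_univ_five, Fin.sum_univ_five] at hq
    exact hq
  · rw [List.all_eq_true] at he
    have h3 := he n (List.mem_finRange n)
    rw [Bool.or_eq_true, Bool.or_eq_true, Bool.or_eq_true, beq_iff_eq, Bool.not_eq_true', decide_eq_false_iff_not,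
      Bool.not_eq_true', decide_eq_false_iff_not, decide_eq_true_iff] at h3
    rcases h3 with h3 | h3 | h3 | h3
    · exact absurd h3 hn0
    · exfalso
      apply h3
      apply Int.emod_eq_zero_of_dvd
      have e : (r 0 + 45 * r 1 - 54 * r 2 - 120 * r 3 + 144 * r 4) = ∑ j, r j * f1 j := by
        rw [Fin.sum_univ_five]
        simp only [f1, Matrix.cons_val]
        ring
      rw [e]
      exact h1
    · exfalso
      apply h3
      apply Int.emod_eq_zero_of_dvd
      have e : (g2 0 * r 0 + g2 1 * r 1 + g2 2 * r 2 + g2 3 * r 3 + g2 4 * r 4) = ∑ j, r j * g2 j := by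
        rw [Fin.sum_univ_five]
        ring
      rw [e]
      exact h2
    · have e : ![r 0, r 1, r 2, r 3, r 4] = r := by
        funext i
        fin_cases i <;> rfl
      rw [e] at h3
      exact h3

/-! ## the soundness -/

theorem quad_single : ∀ i : Fin 5, quad [] (Pi.single i 1) = 33 := by decide +kernel

theorem quad_diff : ∀ i j : Fin 5, i ≠ j → quad [] (Pi.single i 1 - Pi.single j 1) = 22 := by decide +kernel

theorem quad_cons (r : Row) (kn : List Row) (x : Row) :
    quad (r :: kn) x = quad kn x - (∑ i, x i * r i) * ∑ i, x i * r i := by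
  rw [quad, quad, Finset.sum_mul_sum, ← Finset.sum_sub_distrib]
  refine Finset.sum_congr rfl fun i _ => ?_
  rw [← Finset.sum_sub_distrib]
  refine Finset.sum_congr rfl fun j _ => ?_
  rw [rest, rest, List.map_cons, List.sum_cons]
  ring

theorem quad_eq (kn : List Row) (x : Row) :
    quad kn x = quad [] x - (kn.map fun r => (∑ i, x i * r i) * ∑ i, x i * r i).sum := by
  induction kn with
  | nil => simp
  | cons r kn ih => rw [quad_cons, ih, List.map_cons, List.sum_cons]; ring

section

variable {ι : Type} [Fintype ι] {q : ι → Row}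

theorem quad_nil (hg : ∀ i j, ∑ x, q x i * q x j = G i j) (x : Row) :
    quad [] x = ∑ u, (∑ i, x i * q u i) * ∑ i, x i * q u i := by
  have h : ∀ u, (∑ i, x i * q u i) * ∑ i, x i * q u i = ∑ i, ∑ j, (x i * q u i) * (x j * q u j) := fun u => by
    rw [Finset.sum_mul_sum]
  have h2 : ∑ u, ∑ i, ∑ j, (x i * q u i) * (x j * q u j) = ∑ i, ∑ j, ∑ u, (x i * q u i) * (x j * q u j) := by
    rw [Finset.sum_comm]
    exact Finset.sum_congr rfl fun i _ => Finset.sum_comm
  rw [Finset.sum_congr rfl fun u _ => h u, h2, quad]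
  refine Finset.sum_congr rfl fun i _ => Finset.sum_congr rfl fun j _ => ?_
  rw [rest, List.map_nil, List.sum_nil, sub_zero, ← hg, Finset.mul_sum]
  refine Finset.sum_congr rfl fun u _ => ?_
  ring

theorem quad_nonneg (hg : ∀ i j, ∑ x, q x i * q x j = G i j) (L : List ι) (hL : L.Nodup) (x : Row) :
    0 ≤ quad (L.map q) x := by
  classical
  rw [quad_eq, quad_nil hg, sub_nonneg, List.map_map, ← List.sum_toFinset _ hL]
  exact Finset.sum_le_sum_of_subset_of_nonneg (Finset.subset_univ _) fun u _ _ => mul_self_nonneg _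

theorem bounds (hg : ∀ i j, ∑ x, q x i * q x j = G i j) (u : ι) :
    (∀ i, -5 ≤ q u i ∧ q u i ≤ 5) ∧ (∀ i j, q u i - q u j ≤ 4) ∧
      11 * (∑ i, q u i * q u i) - 2 * ((∑ i, q u i) * ∑ i, q u i) ≤ 121 := by
  have key : ∀ x : Row, (∑ i, x i * q u i) * ∑ i, x i * q u i ≤ quad [] x := by
    intro x
    have h := quad_nonneg hg [u] (List.nodup_singleton u) x
    rw [List.map_cons, List.map_nil, quad_cons] at h
    linarith
  refine ⟨fun i => ?_, fun i j => ?_, ?_⟩
  · have h := key (Pi.single i 1)
    have e1 : ∑ k, (Pi.single i 1 : Row) k * q u k = q u i := by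
      rw [Finset.sum_eq_single i]
      · rw [Pi.single_eq_same, one_mul]
      · intro k _ hk; rw [Pi.single_eq_of_ne hk, zero_mul]
      · intro h; exact absurd (Finset.mem_univ _) h
    rw [e1, quad_single] at h
    constructor <;> nlinarith
  · by_cases hij : i = j
    · rw [hij, sub_self]; norm_num
    have h := key (Pi.single i 1 - Pi.single j 1)
    have e1 : ∑ k, (Pi.single i 1 - Pi.single j 1 : Row) k * q u k = q u i - q u j := by
      have e3 : ∀ l : Fin 5, ∑ k, (Pi.single l 1 : Row) k * q u k = q u l := by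
        intro l
        rw [Finset.sum_eq_single l]
        · rw [Pi.single_eq_same, one_mul]
        · intro k _ hk; rw [Pi.single_eq_of_ne hk, zero_mul]
        · intro h; exact absurd (Finset.mem_univ _) h
      simp only [Pi.sub_apply, sub_mul, Finset.sum_sub_distrib]
      rw [e3, e3]
    rw [e1, quad_diff i j hij] at h
    nlinarith
  · have h := key (fun i => 11 * q u i - 2 * ∑ k, q u k)
    have e1 : ∑ i, (11 * q u i - 2 * ∑ k, q u k) * q u i =
        11 * (∑ i, q u i * q u i) - 2 * ((∑ i, q u i) * ∑ i, q u i) := by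
      simp only [Fin.sum_univ_five]
      ring
    have e2 : quad [] (fun i => 11 * q u i - 2 * ∑ k, q u k) =
        121 * (11 * (∑ i, q u i * q u i) - 2 * ((∑ i, q u i) * ∑ i, q u i)) := by
      simp only [quad, rest, G, List.map_nil, List.sum_nil, sub_zero, Fin.sum_univ_five]
      simp only [Fin.isValue, Fin.reduceEq, if_true, if_false]
      ring
    rw [e1, e2] at h
    nlinarith

theorem chkS_eq {A : Fin 5 → Fin 5 → ℤ} {T : Fin 3 → Fin 5 → ℤ} {S : Fin 3 → Fin 3 → ℤ} {δ dR : ℤ} {s : ℕ}
    (hS : ∀ i j, ∑ l, (∑ k, T i k * A k l) * T j l = S i j) : chk2 A T δ dR s = chkS S δ dR s := by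
  rw [chk2, chkS]
  congr 1
  funext n
  congr 1
  funext i j
  rw [sch, hS]

end

section Final

variable {g2 : Fin 5 → ℤ} {ι : Type} [Fintype ι] (D : MDatG g2 ι)

theorem gramG (i j : Fin 5) : ∑ x, D.q x i * D.q x j = G i j := D.gram i j

/-- the known rows -/
def full : List Row := (List.ofFn D.c).map D.q

theorem full_eq : full D = List.ofFn fun n => D.q (D.c n) := by
  rw [full, List.map_ofFn]
  rfl

theorem nodup_c : (List.ofFn D.c).Nodup := List.nodup_ofFn.2 D.inj

theorem leaf_sound (hcard : Fintype.card ι ≤ 15) {R T A S : List (List ℤ)} {δ : ℤ}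
    (h : leafB (full D) R T A S δ = true) : False := by
  classical
  rw [leafB, Bool.and_eq_true, Bool.and_eq_true, Bool.and_eq_true, Bool.and_eq_true, decide_eq_true_iff,
    decide_eq_true_iff, decide_eq_true_iff, decide_eq_true_iff] at h
  obtain ⟨h1, h2, h3, h4, h5⟩ := h
  rw [← chkS_eq h4] at h5
  have hcB : ∀ s, D.c s ∈ (univ : Finset ι) := fun s => Finset.mem_univ _
  have hR : ∀ i j, G i j - ∑ s, D.q (D.c s) i * D.q (D.c s) j = fn2 (m := 5) (n := 5) R i j := by
    intro i j
    rw [← h1, rest, full_eq, List.map_ofFn, List.sum_ofFn]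
    rfl
  have hT : ∀ (i : Fin 3) (j : Fin 5), 0 - ∑ s : Fin 7, ka i s * D.q (D.c s) j = fn2 (m := 3) (n := 5) T i j := by
    intro i j
    rw [← h2, full_eq]
    congr 1
  have key : ∀ C : Finset ι, C = univ \ univ.image D.c → False := by
    intro C hC
    refine no_rows2 (U := C) (fun u j => D.q u j) (fun i u => D.a i u) (fn2 R) (fn2 A) (fn2 T) δ ?_ ?_ ?_ ?_
      (s := 8) (by norm_num) ?_ h3 h5
    · intro i j
      rw [Finset.sum_coe_sort C fun x => D.q x i * D.q x j, hC, sum_rest D.inj hcB fun x => D.q x i * D.q x j, gramG,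
        ← hR]
    · intro i j
      rw [Finset.sum_coe_sort C fun x => D.a i x * D.q x j, hC, sum_rest D.inj hcB fun x => D.a i x * D.q x j, D.rel,
        ← hT]
      simp only [D.known]
    · intro i u
      exact D.ha i u
    · intro u i j hij
      exact mul_eq_zero.1 (D.disj i j hij u)
    · rw [Fintype.card_coe, hC, card_rest D.inj hcB, Finset.card_univ]
      omega
  exact key _ rfl

include D in
/-- **The numerical statement from the two kernel computations.** -/
theorem mnum_of {cands : List (List Row)} (hlen : cands.length = 7) (h0 : cands.getD 0 [] = [![1, 0, 0, 0, 0]])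
    (he : enumB g2 cands = true) {t : Cert} (hc : check cands [] t = true) (hcard : Fintype.card ι ≤ 15) : False := by
  refine check_sound (full D) ?_ (fun R T A S δ => leaf_sound D hcard) cands [] (full D) t rfl ?_ hc
  · intro pre hpre x
    rw [List.prefix_iff_eq_take.1 hpre, full, ← List.map_take]
    exact quad_nonneg (gramG D) _ ((List.take_sublist _ _).nodup (nodup_c D)) x
  · rw [List.forall₂_iff_get]
    have hl : (full D).length = 7 := by rw [full_eq, List.length_ofFn]
    refine ⟨by rw [hl, hlen], ?_⟩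
    intro n hn1 hn2
    have hn : n < 7 := by rw [hl] at hn1; exact hn1
    have e1 : (full D).get ⟨n, hn1⟩ = D.q (D.c ⟨n, hn⟩) := by
      rw [List.get_eq_getElem, List.getElem_of_eq (full_eq D), List.getElem_ofFn]
    have e2 : cands.get ⟨n, hn2⟩ = cands.getD n [] := by
      rw [List.getD_eq_getElem?_getD, List.getElem?_eq_getElem hn2]
      rfl
    rw [e1, e2]
    by_cases hz : n = 0
    · subst hz
      rw [h0, List.mem_singleton]
      exact D.one
    · obtain ⟨b1, b2, b3⟩ := bounds (gramG D) (D.c ⟨n, hn⟩)
      exact enum_sound he _ b1 b2 b3 ⟨n, hn⟩ (fun h => hz (congrArg Fin.val h)) (D.cong1 _) (D.cong2 _)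

end Final

end Cfsg.Agent.H735.Gram.MN
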