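import Cfsg.Agent.H735.Gram.MChk

/-!
# S4879, the Monster, `p = 11`: the certificates (helper735)

`mnum : MNum`, `mnumB : MNumB`.
-/

set_option autoImplicit false
set_option maxRecDepth 100000

namespace Cfsg.Agent.H735.Gram.MN

open Cfsg.Agent.H34.LB

def candsA : List (List Row) :=
  [[![1, 0, 0, 0, 0]],
   [![-2, -1, -3, -1, 1], ![0, 3, 0, 2, 0], ![1, 1, 1, 1, 1], ![2, -1, 2, 0, 2]],
   [![-1, 0, -1, 0, 0], ![0, -2, 0, -1, 1], ![2, 2, 3, 2, 0]],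
   [![-4, -1, 0, -2, -2], ![0, 2, -1, 1, 0], ![1, 0, 0, 0, 1], ![4, 2, 4, 2, 1]],
   [![-2, 0, -3, -1, 1], ![-1, -3, 0, 1, -2], ![1, 2, 1, 1, 1], ![2, 0, 2, 0, 2]],
   [![-4, -1, 0, -1, -2], ![0, 2, -1, 2, 0], ![1, 0, 0, 1, 1], ![4, 2, 4, 3, 1]],
   [![-1, 0, -1, -1, -1], ![0, -2, 0, -2, 0], ![2, 2, 3, 1, -1]]]

def treeA : Cert :=
  .node [.node [.node [.node [.neg [2288, -715, -3861, 572, 2288],
  .neg [2, -1, 3, -1, -2],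
  .node [.neg [0, 0, -1, 0, 1],
  .neg [-1, 1, -1, 0, 1],
  .node [.neg [-1, 0, 2, 0, -1],
  .neg [-1, 1, -2, 1, 1],
  .node [.leaf [[23, 18, 13, 17, 20], [18, 28, 17, 19, 21], [13, 17, 21, 17, 23], [17, 19, 17, 29, 20], [20, 21, 23, 20, 28]] [[-1, -2, -1, 0, 0], [1, 0, 1, 0, 0], [2, 1, 3, 1, -1]] [[9521, -1353, 15875, -2005, -17394], [-1353, 1910, -1922, -195, 1252], [15875, -1922, 35666, -3791, -36487], [-2005, -195, -3791, 1864, 3361], [-17394, 1252, -36487, 3361, 39736]] [[71477, -70387, -234207], [-70387, 76937, 250225], [-234207, 250225, 824260]] 19039,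
  .leaf [[24, 18, 14, 18, 21], [18, 24, 17, 15, 21], [14, 17, 22, 18, 24], [18, 15, 18, 26, 21], [21, 21, 24, 21, 29]] [[-1, -2, -1, 0, 0], [1, 0, 1, 0, 0], [2, 1, 3, 1, -1]] [[5741, -1466, 9411, -2055, -9396], [-1466, 1388, -2226, 534, 1512], [9411, -2226, 19665, -3609, -18864], [-2055, 534, -3609, 1569, 2952], [-9396, 1512, -18864, 2952, 19488]] [[35012, -36844, -118036], [-36844, 44228, 136436], [-118036, 136436, 429140]] 8844,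
  .neg [0, 0, -1, 0, 1]],
  .neg [0, 0, -1, 0, 1]],
  .neg [2, -1, 3, -1, -2]],
  .neg [0, 0, -1, 0, 1]],
  .node [.neg [-1, 1, 2, 0, -2],
  .node [.neg [0, -1, 1, 0, 0],
  .neg [0, -1, 1, 0, 0],
  .node [.neg [-1, 0, 2, 0, -1],
  .neg [0, -1, 1, 0, 0],
  .node [.leaf [[25, 18, 14, 17, 21], [18, 20, 19, 15, 23], [14, 19, 21, 18, 23], [17, 15, 18, 27, 21], [21, 23, 23, 21, 28]] [[-1, -2, -1, 0, 0], [0, 2, 0, 1, -1], [2, 1, 3, 1, -1]] [[405, -918, 771, -280, 27], [-918, 2404, -1788, 702, -344], [771, -1788, 1571, -548, 11], [-280, 702, -548, 226, -86], [27, -344, 11, -86, 325]] [[2310, -5430, 1694], [-5430, 14523, -8022], [1694, -8022, 11248]] 202,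
  .neg [0, -1, 0, 0, 1],
  .neg [0, -1, 0, 0, 1]],
  .neg [0, 0, -1, 0, 1]],
  .neg [-1, 1, -1, 1, 0]],
  .node [.neg [0, 0, -1, 0, 1],
  .neg [0, -1, 1, 1, -1],
  .node [.neg [-1, 0, 2, 0, -1],
  .neg [-1, 1, -1, 1, 0],
  .node [.leaf [[24, 18, 14, 17, 20], [18, 24, 17, 17, 23], [14, 17, 22, 17, 23], [17, 17, 17, 28, 21], [20, 23, 23, 21, 27]] [[-1, -2, -1, 0, 0], [0, 2, 0, 1, -1], [2, 1, 3, 1, -1]] [[969, 1662, 3102, 243, -4965], [1662, 3939, 6558, 594, -10635], [3102, 6558, 11949, 1026, -18861], [243, 594, 1026, 216, -1728], [-4965, -10635, -18861, -1728, 30201]] [[67758, -79749, -162942], [-79749, 94545, 191511], [-162942, 191511, 395061]] 1431,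
  .neg [0, -2, 0, -1, 2],
  .neg [0, -1, 0, 0, 1]],
  .neg [0, 0, -1, 0, 1]],
  .node [.neg [-2, 0, 0, 1, 0],
  .neg [-1, 1, -1, 1, 0],
  .neg [-174, 2311, 1886, 1162, -4839],
  .neg [0, 0, -1, 0, 1]]],
  .neg [0, 0, -1, 0, 1]],
  .neg [0, 0, -1, 0, 1]],
  .node [.node [.neg [3, -2, -1, 0, 1],
  .neg [-1, 1, -1, 1, 0],
  .node [.neg [-1, 1, -1, 0, 1],
  .neg [-1, 2, -1, 0, 0],
  .node [.neg [-2, 1, 0, 1, 0],
  .neg [-1, 1, -1, 1, 0],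
  .node [.leaf [[27, 20, 19, 19, 18], [20, 20, 20, 14, 20], [19, 20, 30, 20, 20], [19, 14, 20, 26, 19], [18, 20, 20, 19, 29]] [[-1, -2, -1, 0, 0], [1, 0, 1, 0, 0], [0, -3, 0, -2, 0]] [[17680, -28880, 9016, -12080, 10640], [-28880, 56507, -18954, 21266, -21906], [9016, -18954, 9116, -8180, 6548], [-12080, 21266, -8180, 11620, -9140], [10640, -21906, 6548, -9140, 11116]] [[79520, 50840, 240084], [50840, 44828, 184022], [240084, 184022, 810235]] 33064,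
  .neg [-1, 1, -1, 1, 0],
  .neg [0, -1, -1, 0, 2]],
  .neg [-2, 1, -1, 0, 1]],
  .neg [-1, 1, -1, 1, 0]],
  .neg [-1, 1, -1, 1, 0]],
  .neg [-1, 2, 0, 1, -1],
  .node [.neg [-2, 2, 1, 0, -1],
  .neg [-1, 2, -1, 1, 0],
  .node [.neg [0, 0, -1, 0, 1],
  .neg [0, -1, 1, 1, -1],
  .node [.neg [-2, 1, 0, 1, 0],
  .neg [0, -2, 0, 0, 1],
  .neg [3572, -10520, -148, -4844, 8084],
  .neg [-1, 0, -1, 0, 1]],
  .neg [-1, 1, 0, 1, -1]],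
  .neg [-1, 0, -1, 0, 1]]],
  .node [.node [.node [.neg [-2, 1, -1, 0, 1],
  .neg [-2, -1, 2, 1, -1],
  .node [.neg [-1, 0, 0, 0, 0],
  .neg [-2, 0, 2, -1, 0],
  .neg [3, -1, -1, 0, 0],
  .neg [-1, 0, 0, 0, 0]],
  .neg [-2, 1, 1, 0, -1]],
  .node [.neg [-1, 1, -1, 0, 1],
  .neg [0, 3, -2, -1, 1],
  .node [.neg [4, -1, -2, -1, 1],
  .neg [-1, 1, -1, 1, 0],
  .node [.leaf [[27, 19, 18, 18, 18], [19, 24, 21, 17, 19], [18, 21, 28, 20, 19], [18, 17, 20, 28, 18], [18, 19, 19, 18, 29]] [[-1, -2, -1, 0, 0], [1, 0, 1, 0, 0], [-1, -1, -1, -1, -1]] [[38385, -20270, 990, -9785, -5120], [-20270, 69552, -31158, 1899, -13752], [990, -31158, 50677, -15476, -3797], [-9785, 1899, -15476, 34748, -6599], [-5120, -13752, -3797, -6599, 32592]] [[163538, 11814, 17978], [11814, 91042, -5436], [17978, -5436, 19818]] 400795,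
  .neg [8529, -20292, 13642, -11837, 5852],
  .neg [1, 1, 2, 0, -3]],
  .neg [-1, 0, -1, 0, 1]],
  .node [.neg [-2, 1, 0, 0, 0],
  .neg [0, -1, 1, 0, 0],
  .node [.leaf [[24, 21, 15, 19, 15], [21, 28, 23, 19, 21], [15, 23, 25, 21, 16], [19, 19, 21, 29, 19], [15, 21, 16, 19, 26]] [[-2, 0, -2, 1, -1], [1, 0, 1, 0, 0], [-1, -1, -1, -1, -1]] [[13529, -23184, 18082, -12725, 9092], [-23184, 40733, -31820, 22077, -16076], [18082, -31820, 25249, -17472, 12499], [-12725, 22077, -17472, 12432, -8823], [9092, -16076, 12499, -8823, 6636]] [[543634, -201672, 30503], [-201672, 74942, -11332], [30503, -11332, 1879]] 3667,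
  .neg [-1, 1, -1, 1, 0],
  .neg [-1, 0, -2, 1, 1]],
  .neg [-1, 0, -1, 0, 1]]],
  .node [.neg [-1, 1, -2, 0, 2],
  .node [.neg [-2, 0, 1, 0, 0],
  .neg [0, 4, -2, -2, 1],
  .node [.leaf [[26, 18, 19, 20, 16], [18, 23, 21, 24, 15], [19, 21, 30, 20, 20], [20, 24, 20, 29, 21], [16, 15, 20, 21, 25]] [[1, 3, 0, 0, 3], [1, 0, 1, 0, 0], [-1, -1, -1, -1, -1]] [[6, 396, -177, -351, 195], [396, 39156, -17436, -34611, 19275], [-177, -17436, 7766, 15412, -8584], [-351, -34611, 15412, 30596, -17039], [195, 19275, -8584, -17039, 9491]] [[788325, -76458, -30423], [-76458, 7418, 2950], [-30423, 2950, 1175]] 21,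
  .leaf [[27, 18, 20, 21, 17], [18, 19, 21, 20, 15], [20, 21, 31, 21, 21], [21, 20, 21, 26, 22], [17, 15, 21, 22, 26]] [[1, 3, 0, 0, 3], [1, 0, 1, 0, 0], [-1, -1, -1, -1, -1]] [[1339, -304, -221, -802, 157], [-304, 21952, -9808, -17160, 9976], [-221, -9808, 5435, 7526, -4955], [-802, -17160, 7526, 16044, -9230], [157, 9976, -4955, -9230, 6419]] [[435364, -43612, -21238], [-43612, 6332, 1854], [-21238, 1854, 1547]] 12088,
  .neg [0, 0, -1, 0, 1]],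
  .neg [-1, 0, -1, 0, 1]],
  .node [.neg [3, -1, -1, 0, 0],
  .node [.leaf [[27, 19, 18, 19, 18], [19, 24, 21, 15, 19], [18, 21, 28, 21, 19], [19, 15, 21, 26, 19], [18, 19, 19, 19, 29]] [[-2, 0, -2, 1, -1], [1, 0, 1, 0, 0], [-1, -1, -1, -1, -1]] [[25249, -18821, 8740, -15399, 1022], [-18821, 46790, -28908, 19441, -12771], [8740, -28908, 38741, -23652, 3629], [-15399, 19441, -23652, 34748, -10449], [1022, -12771, 3629, -10449, 19348]] [[575682, -206642, -5228], [-206642, 81470, 659], [-5228, 659, 10540]] 207259,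
  .neg [-1, 1, -1, 1, 0],
  .neg [1, 0, 3, -1, -2]],
  .node [.leaf [[26, 19, 18, 18, 17], [19, 28, 19, 19, 19], [18, 19, 29, 19, 19], [18, 19, 19, 29, 18], [17, 19, 19, 18, 28]] [[-1, -2, -1, 0, 0], [1, 0, 1, 0, 0], [-1, -1, -1, -1, -1]] [[76049, -24681, -14608, -15559, -9510], [-24681, 77450, -13129, -15029, -19000], [-14608, -13129, 67089, -15082, -18051], [-15559, -15029, -15082, 64148, -11359], [-9510, -19000, -18051, -11359, 66920]] [[272482, -38302, 29132], [-38302, 113922, -17910], [29132, -17910, 39640]] 803659,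
  .leaf [[27, 19, 19, 19, 18], [19, 24, 19, 15, 19], [19, 19, 30, 20, 20], [19, 15, 20, 26, 19], [18, 19, 20, 19, 29]] [[-1, -2, -1, 0, 0], [1, 0, 1, 0, 0], [-1, -1, -1, -1, -1]] [[46937, -23917, -2128, -19375, 698], [-23917, 56507, -14965, 9695, -18208], [-2128, -14965, 38741, -15766, -5263], [-19375, 9695, -15766, 47264, -14419], [698, -18208, -5263, -14419, 38948]] [[151922, -3658, 21058], [-3658, 81422, -2834], [21058, -2834, 21101]] 416883,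
  .neg [1, 1, 2, 0, -3]],
  .neg [-1, 0, -1, 0, 1]],
  .node [.neg [-2, 0, 0, 1, 0],
  .neg [-1, 1, -1, 1, 0],
  .node [.leaf [[23, 21, 15, 19, 14], [21, 32, 21, 21, 21], [15, 21, 26, 20, 16], [19, 21, 20, 30, 19], [14, 21, 16, 19, 25]] [[-2, 0, -2, 1, -1], [1, 0, 1, 0, 0], [-1, -1, -1, -1, -1]] [[48665, -26439, 3708, -19451, 7366], [-26439, 47711, -16191, 6909, -20160], [3708, -16191, 36221, -14998, -259], [-19451, 6909, -14998, 38472, -14551], [7366, -20160, -259, -14551, 38164]] [[641170, -226160, 58839], [-226160, 92302, -22330], [58839, -22330, 21101]] 353251,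
  .neg [21217, -25319, 15316, -24059, 16702],
  .neg [1, 1, 2, 0, -3]],
  .neg [-1, 0, -1, 0, 1]]],
  .neg [2, -1, 3, 0, -2]],
  .node [.neg [3, -1, -2, 0, 1],
  .node [.neg [-1, 1, -1, 0, 1],
  .neg [0, -2, 1, 0, 0],
  .node [.neg [-2, 1, 1, 1, -1],
  .neg [0, -1, 1, 0, 0],
  .node [.leaf [[28, 19, 19, 18, 18], [19, 20, 21, 15, 21], [19, 21, 29, 20, 19], [18, 15, 20, 27, 19], [18, 21, 19, 19, 28]] [[-1, -2, -1, 0, 0], [0, 2, 0, 1, -1], [-1, -1, -1, -1, -1]] [[4793, -15949, 6632, -4459, 7406], [-15949, 63629, -27439, 16982, -30373], [6632, -27439, 12725, -7672, 12887], [-4459, 16982, -7672, 5516, -8407], [7406, -30373, 12887, -8407, 15344]] [[111746, -230026, 9256], [-230026, 481610, -18803], [9256, -18803, 1223]] 10227,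
  .neg [0, -2, 1, 0, 1],
  .neg [0, -1, 0, 0, 1]],
  .neg [-1, 1, -2, 0, 1]],
  .neg [0, -1, 1, -1, 1]],
  .node [.node [.neg [-2, 1, 0, 0, 0],
  .neg [-1, 1, -1, 0, 1],
  .node [.leaf [[24, 21, 14, 17, 20], [21, 28, 21, 19, 23], [14, 21, 22, 17, 23], [17, 19, 17, 28, 21], [20, 23, 23, 21, 27]] [[2, 0, 3, 2, 0], [0, 2, 0, 1, -1], [-1, -1, -1, -1, -1]] [[5417, -4195, 9452, 449, -8840], [-4195, 3939, -7760, -447, 6710], [9452, -7760, 18942, 1012, -17314], [449, -447, 1012, 499, -1202], [-8840, 6710, -17314, -1202, 16704]] [[323302, 11830, -18184], [11830, 6735, -747], [-18184, -747, 1231]] 5074,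
  .neg [-1, 2, -2, 1, 0],
  .neg [0, 0, -1, 0, 1]],
  .neg [0, 0, -1, 0, 1]],
  .node [.neg [-2, 0, 1, 1, 0],
  .neg [0, -2, 1, 0, 0],
  .node [.neg [0, 4, -1, -3, 1],
  .neg [0, 4, -2, -1, 0],
  .neg [0, 0, -1, 0, 1]],
  .neg [0, -2, 1, 1, 0]],
  .node [.neg [-2, 0, 1, 1, -1],
  .neg [-1, 2, -1, 1, -1],
  .node [.leaf [[27, 19, 19, 18, 17], [19, 24, 19, 17, 21], [19, 19, 30, 19, 19], [18, 17, 19, 28, 19], [17, 21, 19, 19, 27]] [[-1, -2, -1, 0, 0], [0, 2, 0, 1, -1], [-1, -1, -1, -1, -1]] [[37393, -21500, -7182, -9401, 4848], [-21500, 70091, -9310, 1808, -35699], [-7182, -9310, 30633, -7410, -4579], [-9401, 1808, -7410, 32284, -12991], [4848, -35699, -4579, -12991, 51072]] [[210786, -276678, 17090], [-276678, 539730, -12419], [17090, -12419, 18641]] 377851,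
  .neg [8193, -21374, 5606, -11677, 15100],
  .neg [0, -1, -1, 0, 2]],
  .neg [9725, -655, 9095, 3815, -12415]],
  .node [.neg [-2, 1, 0, 0, 0],
  .neg [-1, 1, -1, 1, 0],
  .node [.neg [2, -3, 1, -2, 3],
  .neg [-1, 1, 0, 1, -1],
  .neg [0, -1, 0, 0, 1]],
  .neg [-1, 0, -1, 0, 1]]],
  .node [.neg [0, 0, -1, 0, 1],
  .neg [0, -1, 1, 1, -1],
  .node [.neg [-1, 0, 0, 0, 0],
  .neg [-1, 1, -1, 1, 0],
  .node [.neg [12857, -2649, 11681, -2306, -9840],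
  .neg [-2, 1, -2, 1, 1],
  .neg [0, 0, -1, 0, 1]],
  .neg [-1, 0, 0, 0, 0]],
  .neg [-1, 0, -1, 0, 1]]],
  .node [.node [.neg [0, 0, -1, 0, 1],
  .neg [0, -1, 1, 1, -1],
  .node [.neg [-1, 0, 0, 0, 0],
  .neg [-2, 0, 2, -1, 0],
  .neg [-2, 1, 2, 0, -1],
  .neg [-1, 0, 0, 0, 0]],
  .neg [-2, 1, 1, 0, -1]],
  .node [.neg [0, 0, -1, 0, 1],
  .neg [0, -1, 1, 1, -1],
  .node [.neg [4, -1, -2, -1, 1],
  .neg [0, -2, 1, -1, 1],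
  .node [.leaf [[24, 15, 13, 14, 18], [15, 20, 15, 13, 19], [13, 15, 20, 14, 19], [14, 13, 14, 24, 18], [18, 19, 19, 18, 29]] [[-1, -2, -1, 0, 0], [-2, -2, -3, -2, 0], [-1, -1, -1, -1, -1]] [[17801, -7218, 571, -3343, -4619], [-7218, 32368, -9854, 241, -10420], [571, -9854, 30552, -4455, -11150], [-3343, 241, -4455, 16794, -5588], [-4619, -10420, -11150, -5588, 27241]] [[110679, 122813, 19090], [122813, 295404, 40908], [19090, 40908, 13086]] 196433,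
  .leaf [[25, 15, 14, 15, 19], [15, 16, 15, 9, 19], [14, 15, 21, 15, 20], [15, 9, 15, 21, 19], [19, 19, 20, 19, 30]] [[-1, -2, -1, 0, 0], [-2, -2, -3, -2, 0], [-1, -1, -1, -1, -1]] [[2961, -7068, 2891, -4123, 3285], [-7068, 22675, -9468, 12473, -11472], [2891, -9468, 5240, -5523, 4170], [-4123, 12473, -5523, 8030, -6692], [3285, -11472, 4170, -6692, 6945]] [[38539, 39245, 9536], [39245, 46880, 10432], [9536, 10432, 2797]] 9049,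
  .neg [0, 0, -1, 0, 1]],
  .neg [-1, 0, -1, 0, 1]],
  .node [.neg [-2, 1, 0, 0, 0],
  .neg [0, -1, 1, 0, 0],
  .node [.leaf [[21, 17, 10, 15, 15], [17, 24, 17, 15, 21], [10, 17, 17, 15, 16], [15, 15, 15, 25, 19], [15, 21, 16, 19, 26]] [[-2, 0, -2, 1, -1], [-2, -2, -3, -2, 0], [-1, -1, -1, -1, -1]] [[7481, -9456, 6931, -5075, 2765], [-9456, 19343, -13768, 8135, -7640], [6931, -13768, 14840, -7363, 3370], [-5075, 8135, -7363, 7078, -4284], [2765, -7640, 3370, -4284, 6825]] [[241495, 39231, 15857], [39231, 47600, 7532], [15857, 7532, 2797]] 31009,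
  .neg [-1, 1, -1, 1, 0],
  .neg [0, 0, -1, 0, 1]],
  .neg [-1, 0, -1, 0, 0]]],
  .node [.neg [0, 0, -1, 0, 1],
  .neg [0, -1, 1, 1, -1],
  .node [.neg [-2, 1, 2, 0, -1],
  .node [.leaf [[24, 15, 13, 15, 18], [15, 20, 15, 11, 19], [13, 15, 20, 15, 19], [15, 11, 15, 22, 19], [18, 19, 19, 19, 29]] [[-2, 0, -2, 1, -1], [-2, -2, -3, -2, 0], [-1, -1, -1, -1, -1]] [[11561, -6743, 2295, -5517, -647], [-6743, 22328, -9207, 8109, -9724], [2295, -9207, 20088, -7533, -3618], [-5517, 8109, -7533, 16794, -7956], [-647, -9724, -3618, -7956, 18209]] [[231011, 10041, -1685], [10041, 176976, 25293], [-1685, 25293, 7898]] 111753,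
  .neg [-1, 1, -1, 1, 0],
  .neg [0, 0, -1, 0, 1]],
  .node [.leaf [[23, 15, 13, 14, 17], [15, 24, 13, 15, 19], [13, 13, 21, 13, 19], [14, 15, 13, 25, 18], [17, 19, 19, 18, 28]] [[-1, -2, -1, 0, 0], [-2, -2, -3, -2, 0], [-1, -1, -1, -1, -1]] [[31913, -8596, -5145, -5215, -6699], [-8596, 35679, 1617, -5530, -16534], [-5145, 1617, 44408, -1757, -26978], [-5215, -5530, -1757, 28602, -10276], [-6699, -16534, -26978, -10276, 52745]] [[180831, 239337, 31675], [239337, 566300, 73871], [31675, 73871, 23121]] 351281,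
  .leaf [[24, 15, 14, 15, 18], [15, 20, 13, 11, 19], [14, 13, 22, 14, 20], [15, 11, 14, 22, 19], [18, 19, 20, 19, 29]] [[-1, -2, -1, 0, 0], [-2, -2, -3, -2, 0], [-1, -1, -1, -1, -1]] [[16497, -8298, -2577, -6555, 1269], [-8298, 25982, 1209, 6612, -17038], [-2577, 1209, 20088, -837, -12498], [-6555, 6612, -837, 20022, -12804], [1269, -17038, -12498, -12804, 32897]] [[107003, 155849, 22655], [155849, 338408, 46637], [22655, 46637, 12452]] 159897,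
  .neg [0, 0, -1, 0, 1]],
  .neg [-1, 0, -1, 0, 1]],
  .node [.neg [-2, 0, 0, 1, 0],
  .neg [-1, 1, -1, 2, -1],
  .node [.leaf [[20, 17, 10, 15, 14], [17, 28, 15, 17, 21], [10, 15, 18, 14, 16], [15, 17, 14, 26, 19], [14, 21, 16, 19, 25]] [[-2, 0, -2, 1, -1], [-2, -2, -3, -2, 0], [-1, -1, -1, -1, -1]] [[21593, -10322, 927, -7363, 1581], [-10322, 22658, -3753, 2452, -12714], [927, -3753, 24408, -3897, -10026], [-7363, 2452, -3897, 18518, -9516], [1581, -12714, -10026, -9516, 30537]] [[270767, 53851, 27818], [53851, 268208, 32839], [27818, 32839, 12452]] 177345,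
  .leaf [[21, 17, 11, 16, 15], [17, 24, 15, 13, 21], [11, 15, 19, 15, 17], [16, 13, 15, 23, 20], [15, 21, 17, 20, 26]] [[-2, 0, -2, 1, -1], [-2, -2, -3, -2, 0], [-1, -1, -1, -1, -1]] [[7553, -9836, 2679, -9175, 8893], [-9836, 14257, -3893, 12650, -13026], [2679, -3893, 2072, -3705, 3094], [-9175, 12650, -3705, 12530, -12140], [8893, -13026, 3094, -12140, 12993]] [[209203, -81161, 376], [-81161, 46092, 1593], [376, 1593, 487]] 7465,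
  .neg [0, 0, -1, 0, 1]],
  .neg [-1, 0, -1, 0, 0]]],
  .neg [-1, 0, -1, 0, 1]]],
  .node [.node [.neg [-2, 1, 0, 0, 0],
  .neg [-1, 1, -1, 1, 0],
  .node [.neg [-1, 1, -1, 0, 0],
  .neg [-1, 2, -1, 0, 0],
  .node [.neg [-2, 0, 0, 1, 0],
  .neg [-1, 1, -1, 1, 0],
  .node [.neg [21236, -31918, 13652, -11560, 16244],
  .neg [-1, 1, -1, 1, 0],
  .neg [0, -1, -1, 0, 2]],
  .neg [-1, 0, -1, 0, 1]],
  .neg [-1, 1, -1, 1, 0]],
  .neg [-1, 0, -1, 0, 1]],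
  .neg [-1, 2, -1, 1, -1],
  .node [.neg [-2, 1, 0, 0, 0],
  .neg [-1, 2, -2, 1, 0],
  .node [.neg [0, 0, -1, 0, 1],
  .neg [0, -1, 1, 1, -1],
  .node [.neg [-2, 0, 0, 1, 0],
  .neg [-1, 1, -1, 1, 0],
  .node [.leaf [[20, 18, 10, 15, 14], [18, 24, 16, 16, 22], [10, 16, 18, 14, 16], [15, 16, 14, 26, 19], [14, 22, 16, 19, 25]] [[-1, -2, -1, 0, 0], [-2, -2, -3, -2, 0], [-2, 1, -2, 0, -2]] [[8720, -12640, 3040, -4560, 7760], [-12640, 22658, -5588, 7068, -14656], [3040, -5588, 3728, -2088, 2416], [-4560, 7068, -2088, 4008, -5376], [7760, -14656, 2416, -5376, 11792]] [[36248, 28888, -101216], [28888, 38408, -63856], [-101216, -63856, 356882]] 17520,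
  .neg [-1, 1, -1, 1, 0],
  .neg [0, -1, 0, 0, 1]],
  .neg [-1, 0, -1, 0, 0]],
  .neg [-1, 1, 0, 1, -1]],
  .neg [-1, 0, -1, 0, 1]]]]]

def candsB : List (List Row) :=
  [[![1, 0, 0, 0, 0]],
   [![-1, -1, -3, -2, 1], ![2, -1, 2, 0, 2], ![2, 1, 1, 0, 1], ![2, 3, 0, 0, 0], ![2, 3, 4, 3, 4], ![2, 5, 3, 3, 3]],
   [![-1, -4, -3, -3, -2], ![-1, -2, -4, -3, -3], ![-1, -2, 0, 0, 1], ![-1, 0, -1, 0, 0], ![-1, 2, -2, 0, -1], ![2, 0, 4, 2, 1], ![2, 2, 3, 2, 0]],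
   [![-4, -1, 0, -2, -2], ![2, 0, 0, -1, 1], ![2, 2, -1, -1, 0], ![2, 2, 3, 2, 4], ![2, 4, 2, 2, 3]],
   [![-3, -3, -5, -2, -3], ![-3, -1, -2, 1, 0], ![0, -3, 0, 0, -2], ![0, -1, -1, 0, -3], ![0, 1, 2, 3, 0]],
   [![-2, 0, -1, -4, -1], ![0, -4, -2, -1, -1], ![0, -2, -3, -1, -2], ![0, 0, 0, 2, 1], ![0, 2, -1, 2, 0], ![3, 2, 4, 4, 1]],
   [![0, -2, 0, -2, 0], ![0, 0, -1, -2, -1], ![0, 0, 3, 1, 3], ![0, 2, 2, 1, 2], ![0, 4, 1, 1, 1]]]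

def treeB : Cert :=
  .node [.node [.node [.neg [-1, 0, 2, 1, -1],
  .neg [-1, -1, 2, 1, 0],
  .node [.neg [-1, 0, 2, 0, -1],
  .neg [1, -1, -2, -2, 3],
  .neg [-1, -1, 1, 1, 0],
  .neg [1210, 1705, 3465, 2310, -8690],
  .node [.neg [0, 0, -1, 0, 0],
  .neg [-1, 0, -1, 0, 1],
  .neg [-1, 2, 0, 0, 0],
  .neg [-1, -1, 0, 0, 2],
  .neg [0, 0, -1, -1, 1]]],
  .node [.neg [-1, 0, 2, 0, -1],
  .neg [1, 0, -3, -2, 3],
  .neg [-1, -1, 1, 1, 0],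
  .node [.neg [0, 0, -1, 0, 0],
  .neg [-1, 0, -1, 0, 1],
  .neg [-1, 1, -1, 0, 1],
  .neg [-1, 0, 0, 0, 2],
  .neg [0, 0, -1, -1, 1]],
  .node [.neg [0, 0, -1, 0, 0],
  .neg [-1, 0, -1, 0, 1],
  .neg [0, -1, 1, 0, -1],
  .neg [-1, 0, -1, 0, 2],
  .neg [0, 0, -1, -1, 1]]],
  .neg [1, -3, 4, 1, -2],
  .neg [0, 0, -1, 0, 1],
  .neg [0, 0, -1, 0, 1]],
  .node [.neg [-1, 2, 0, 1, -1],
  .node [.neg [-1, 0, 1, 0, 0],
  .neg [-2, 1, 0, 2, -1],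
  .neg [0, -1, 1, 0, 1],
  .neg [0, 0, -1, 0, -1],
  .node [.neg [0, 0, -1, 0, 0],
  .neg [-1, 0, 0, 1, 0],
  .neg [-1, 1, 0, 0, 0],
  .neg [-1, 0, 0, 0, 2],
  .neg [-1, 0, 1, 1, 0]]],
  .neg [3388, -15246, 6776, -3388, 10164],
  .node [.neg [-2, 1, 0, 0, 0],
  .neg [-2, 2, -1, 1, -1],
  .node [.neg [0, -1, 1, 0, 0],
  .neg [-1, 0, 0, 1, 0],
  .neg [0, -1, 1, 0, 0],
  .neg [-1, -2, 1, 0, 2],
  .neg [-1, 0, 0, 1, 0]],
  .neg [-1, 1, -1, 1, -1],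
  .node [.neg [0, 0, -1, 0, 0],
  .neg [-1, 0, -1, 1, 0],
  .neg [-1, 1, 0, 0, 0],
  .node [.neg [0, 0, 0, -1, 1],
  .neg [0, -1, 0, 0, 0],
  .neg [-1, 1, 0, 0, 1],
  .node [.neg [-1, 1, -1, 1, 0],
  .leaf [[23, 16, 13, 18, 12], [16, 15, 15, 14, 9], [13, 15, 22, 16, 8], [18, 14, 16, 21, 12], [12, 9, 8, 12, 9]] [[-1, 1, 1, 2, 4], [1, 0, 1, 0, 0], [-2, 1, -2, 0, -2]] [[1087, -1281, 654, -620, 77], [-1281, 2565, -1329, 904, -881], [654, -1329, 990, -786, 625], [-620, 904, -786, 1279, -1084], [77, -881, 625, -1084, 1976]] [[22914, -2711, -4583], [-2711, 3385, -10784], [-4583, -10784, 43589]] 2771,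
  .neg [0, -1, 0, 0, 1],
  .neg [-1, 0, 0, 0, 2],
  .neg [0, -1, 0, 0, 0]],
  .neg [0, -1, 1, 0, 0],
  .neg [0, 0, 0, -1, 1]],
  .neg [-2, 2, -1, 2, -1]]],
  .neg [0, -1, 1, 0, 0],
  .neg [0, -1, 1, 0, 0],
  .node [.neg [-2, 1, 0, 0, 0],
  .neg [-1, 1, 0, 1, -1],
  .node [.neg [0, 0, -1, 0, 0],
  .neg [-1, 0, 0, 1, 0],
  .neg [0, -1, 1, 0, 0],
  .neg [-1, -1, 0, 0, 2],
  .neg [-1, 0, 0, 1, 0]],
  .neg [-1, 2, -1, 1, -2],
  .node [.neg [0, 0, -1, 0, 0],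
  .neg [-1, 0, -1, 0, 1],
  .neg [-1, 1, 0, 0, 0],
  .neg [0, 1, 0, 2, -4],
  .neg [-1, 1, 0, 1, -1]]]],
  .node [.node [.neg [-2, 0, 1, 0, 0],
  .neg [-2, 2, 1, 1, -1],
  .neg [3, 1, -2, -2, 0],
  .node [.neg [0, 0, -1, 0, 0],
  .neg [-1, 0, 0, 1, 0],
  .neg [-1, 1, 0, 0, 1],
  .neg [-1, 0, 0, 0, 2],
  .neg [-1, 0, 1, 1, 0]],
  .neg [-1, 2, 0, 0, 0]],
  .node [.neg [-1, 0, 1, 0, 0],
  .neg [3, 0, -2, -2, 0],
  .neg [-2, 0, 1, 1, 0],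
  .neg [-1, 0, 1, 0, 1],
  .node [.neg [0, 0, -1, 0, 0],
  .neg [-1, 0, 0, 1, 0],
  .neg [-1, 1, 0, 0, 1],
  .neg [-1, 0, 0, 0, 2],
  .neg [-1, 0, 1, 1, 0]]],
  .node [.neg [-2, 0, 1, 0, 0],
  .node [.neg [-1, 0, -1, 1, 0],
  .neg [-1, 0, 0, 1, 0],
  .node [.neg [0, -1, 0, 1, 0],
  .neg [-1, 1, 0, 0, 0],
  .neg [3327, -3870, -363, 1056, -1347],
  .node [.neg [-1, 0, 0, 1, 0],
  .neg [-1, 0, 0, 1, 0],
  .neg [-2, 0, 0, 1, 1],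
  .neg [0, 3, -1, -2, 1],
  .neg [-1, 1, 0, 0, 0]],
  .neg [0, -2, 1, 0, 0],
  .neg [0, 0, -1, -1, 1]],
  .node [.neg [0, -1, 0, 1, 0],
  .neg [-1, 1, 0, 0, 0],
  .neg [-2, 0, 1, 0, 1],
  .node [.neg [-1, 0, 0, 1, 0],
  .neg [-1, 0, 0, 1, 0],
  .neg [-1, 0, 0, 0, 1],
  .neg [3, 1, -1, 0, -4],
  .neg [-1, 1, 0, 0, 0]],
  .neg [-1, 1, 0, 1, -1],
  .neg [0, 0, 0, -1, 1]],
  .neg [-1, 0, 0, 1, 0]],
  .neg [-1, -1, 0, 1, 1],
  .node [.neg [0, 0, -1, 0, 0],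
  .neg [-1, 0, -1, 1, 0],
  .node [.neg [0, -1, 0, 1, 0],
  .neg [0, -1, 0, 0, 0],
  .neg [-1, 0, 0, 0, 2],
  .node [.neg [0, -2, 1, 0, 1],
  .neg [0, -2, 1, 1, 0],
  .neg [-1, 0, 0, 0, 1],
  .neg [-1, 0, 0, 0, 2],
  .neg [0, -1, 0, 0, 0]],
  .neg [0, -1, 1, 0, 0],
  .neg [0, -1, 1, 1, 0]],
  .neg [-1, 0, 0, 0, 2],
  .node [.neg [0, -1, 0, 1, 0],
  .neg [0, -1, 0, 0, 1],
  .neg [-1, 0, 1, 0, 1],
  .node [.neg [-1, 0, 0, 1, 0],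
  .neg [-1, 0, 0, 1, 0],
  .neg [0, -1, 0, 0, 1],
  .neg [-2, 0, 1, 1, 1],
  .neg [0, -1, 0, 0, 1]],
  .neg [-1, 1, 0, 1, -1],
  .neg [0, 0, -1, -1, 0]]],
  .node [.neg [0, -1, -1, 1, 0],
  .neg [-1, -1, 0, 1, 0],
  .neg [-1, 2, 0, 0, 0],
  .node [.neg [0, -1, 0, 1, 0],
  .neg [0, -1, 0, 0, 0],
  .neg [-1, 0, 0, 0, 2],
  .node [.leaf [[23, 10, 16, 18, 15], [10, 7, 12, 10, 8], [16, 12, 27, 18, 12], [18, 10, 18, 21, 14], [15, 8, 12, 14, 12]] [[-1, 1, 1, 2, 4], [1, 2, 0, 0, -1], [-2, -1, -1, 0, -1]] [[360, 156, -64, -6, -483], [156, 2701, -808, 290, -1526], [-64, -808, 369, -194, 476], [-6, 290, -194, 439, -504], [-483, -1526, 476, -504, 1855]] [[20874, -15631, 1225], [-15631, 20713, -1848], [1225, -1848, 1085]] 1463,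
  .neg [4, 4, -1, -3, -4],
  .neg [-1, 0, 0, 0, 1],
  .neg [-1, 0, 0, 0, 2],
  .neg [0, -1, 0, 0, 0]],
  .neg [0, -2, 1, 0, 0],
  .neg [-1, 0, 0, -1, 2]],
  .node [.neg [0, -1, 0, 1, 0],
  .neg [0, -1, 0, 0, 0],
  .node [.neg [-1, 1, 0, 1, 0],
  .neg [-1, 0, 1, 1, 0],
  .neg [-1, 0, 1, 0, 0],
  .neg [-1, 0, 1, 0, 1],
  .neg [0, -1, 0, 0, 0]],
  .neg [3, 2, -1, -4, 0],
  .neg [0, -2, 1, 0, 0],
  .neg [-1, 0, 1, 1, 0]]]],
  .node [.neg [-2, 0, 1, 0, 0],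
  .node [.neg [-1, 0, -1, 1, 0],
  .neg [-1, 0, 0, 1, 0],
  .node [.neg [0, -1, 0, 1, 0],
  .neg [-1, 1, 0, 0, 0],
  .neg [3, -3, 0, 0, -1],
  .node [.neg [-1, 0, 0, 1, 0],
  .neg [-1, 0, 0, 1, 0],
  .neg [-2, -1, 1, 1, 1],
  .neg [3, -3, 0, 0, -1],
  .neg [-1, 1, 0, 0, 0]],
  .neg [-2, 1, 0, 1, 0],
  .neg [0, 0, -1, -1, 1]],
  .node [.neg [0, 0, 0, -1, 1],
  .neg [-1, 1, 0, 0, 0],
  .node [.neg [-2, 1, 0, 1, 0],
  .neg [3, 0, -1, -1, -1],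
  .neg [-1, 0, 0, 0, 1],
  .neg [-1, 0, 1, 0, 1],
  .neg [-1, 1, 0, 0, 0]],
  .node [.neg [-1, 0, 0, 1, 0],
  .neg [-1, 0, 0, 1, 0],
  .neg [-1, 0, 0, 0, 1],
  .leaf [[23, 20, 19, 24, 18], [20, 27, 16, 20, 14], [19, 16, 26, 20, 14], [24, 20, 20, 27, 19], [18, 14, 14, 19, 17]] [[-1, 1, 1, 2, 4], [1, 0, 1, 0, 0], [-2, -1, -1, 0, -1]] [[13216, -2316, -1226, -6226, -4118], [-2316, 1302, 120, 486, 738], [-1226, 120, 1090, -88, 400], [-6226, 486, -88, 5767, -181], [-4118, 738, 400, -181, 4261]] [[179824, -41822, 57904], [-41822, 11854, -17930], [57904, -17930, 31393]] 10806,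
  .neg [-1, 1, 0, 0, 0]],
  .neg [-2, 1, -1, 2, 0],
  .neg [0, 0, 0, -1, 1]],
  .neg [-1, 0, 0, 1, 0]],
  .node [.neg [-2, -1, 0, 2, 0],
  .neg [-1, 0, 0, 1, 0],
  .neg [-1, -1, 1, 1, 0],
  .neg [22059, 14292, -11796, -14579, -7190],
  .neg [-1, 0, 0, 1, 0]],
  .node [.neg [0, 0, -1, 0, 0],
  .neg [-1, 0, -1, 1, 0],
  .node [.neg [0, -1, 0, 1, 0],
  .neg [-1, 1, 0, 0, 0],
  .neg [-1, 1, 0, 0, 1],
  .node [.leaf [[23, 16, 13, 18, 12], [16, 15, 15, 14, 7], [13, 15, 22, 16, 9], [18, 14, 16, 21, 12], [12, 7, 9, 12, 11]] [[-1, 3, 0, 2, 3], [1, 0, 1, 0, 0], [-2, -1, -1, 0, -1]] [[3020, -4010, 1960, -180, -2150], [-4010, 5816, -2818, 12, 2966], [1960, -2818, 1544, -156, -1438], [-180, 12, -156, 444, -168], [-2150, 2966, -1438, -168, 1976]] [[164120, -36900, 11740], [-36900, 8484, -3048], [11740, -3048, 2036]] 1740,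
  .leaf [[23, 16, 13, 18, 12], [16, 19, 15, 18, 7], [13, 15, 21, 14, 8], [18, 18, 14, 21, 10], [12, 7, 8, 10, 10]] [[-1, 3, 0, 2, 3], [1, 0, 1, 0, 0], [-2, -1, -1, 0, -1]] [[2591, -1946, 555, 230, -2421], [-1946, 6636, -1970, -4500, 3766], [555, -1970, 1535, 830, -1345], [230, -4500, 830, 4900, -2690], [-2421, 3766, -1345, -2690, 5111]] [[134704, -24072, -8520], [-24072, 5236, -700], [-8520, -700, 9300]] 10760,
  .neg [-1, 0, 0, 0, 2],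
  .neg [-1, 1, 0, 0, 1],
  .neg [-1, 1, 0, 0, 0]],
  .neg [-1, 2, -1, 0, 0],
  .neg [-1, 1, -1, 0, 1]],
  .neg [-1, 0, 1, -1, 2],
  .node [.neg [0, 0, 0, -1, 1],
  .neg [-2, 1, 1, 1, 0],
  .neg [-2, 0, 2, 1, 0],
  .node [.neg [-1, 0, 0, 1, 0],
  .neg [-1, 0, 0, 1, 0],
  .neg [-1, 0, 0, 0, 2],
  .leaf [[23, 16, 13, 18, 12], [16, 23, 9, 13, 9], [13, 9, 14, 8, 5], [18, 13, 8, 15, 10], [12, 9, 5, 10, 11]] [[-1, -1, -2, -1, 1], [1, 0, 1, 0, 0], [-2, -1, -1, 0, -1]] [[7103, 210, -2533, -7214, -211], [210, 132, -102, -300, -18], [-2533, -102, 1055, 2506, 89], [-7214, -300, 2506, 7676, -2], [-211, -18, 89, -2, 335]] [[4448, 2864, -8152], [2864, 3092, -7648], [-8152, -7648, 19736]] 1416,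
  .neg [-2, 1, 0, 2, 0]],
  .neg [-1, 0, 0, 2, -1],
  .neg [0, 0, -1, -1, 0]]],
  .node [.neg [0, -1, -1, 1, 0],
  .neg [-2, 0, 0, 1, 1],
  .neg [-2, 2, 0, 0, 1],
  .node [.neg [-1, 1, 0, -1, 1],
  .neg [0, -1, 0, 0, 0],
  .neg [-1, 1, 0, 0, 1],
  .node [.leaf [[23, 12, 15, 18, 14], [12, 11, 12, 10, 6], [15, 12, 26, 18, 12], [18, 10, 18, 21, 14], [14, 6, 12, 14, 13]] [[-1, 1, 1, 2, 4], [1, 0, 1, 0, 0], [-2, -1, -1, 0, -1]] [[4074, -3200, 1203, -1130, -2804], [-3200, 5261, -1836, 10, 2702], [1203, -1836, 1945, -1164, -990], [-1130, 10, -1164, 3871, -1882], [-2804, 2702, -990, -1882, 5771]] [[125342, -26929, 5187], [-26929, 8425, -4872], [5187, -4872, 9821]] 13751,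
  .leaf [[23, 12, 15, 18, 14], [12, 15, 12, 14, 6], [15, 12, 25, 16, 11], [18, 14, 16, 21, 12], [14, 6, 11, 12, 12]] [[-1, 1, 1, 2, 4], [1, 0, 1, 0, 0], [-2, -1, -1, 0, -1]] [[5953, -1906, 350, -1146, -5167], [-1906, 6409, -1094, -4242, 4264], [350, -1094, 2356, -492, -1529], [-1146, -4242, -492, 7479, -3570], [-5167, 4264, -1529, -3570, 11062]] [[214294, -36657, 6323], [-36657, 9009, -5616], [6323, -5616, 20029]] 26331,
  .neg [-1, 0, 0, 0, 1],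
  .neg [-1, 1, 0, 0, 1],
  .neg [0, -1, 0, 0, 0]],
  .node [.neg [0, -2, 1, 0, 0],
  .leaf [[23, 12, 15, 18, 14], [12, 11, 14, 10, 6], [15, 14, 24, 18, 11], [18, 10, 18, 21, 14], [14, 6, 11, 14, 13]] [[-1, 3, 0, 2, 3], [1, 0, 1, 0, 0], [-2, -1, -1, 0, -1]] [[1789, -2376, 1477, -998, -1005], [-2376, 4140, -2584, 1384, 1344], [1477, -2584, 1945, -1206, -745], [-998, 1384, -1206, 1384, -34], [-1005, 1344, -745, -34, 1341]] [[121324, -27804, 11144], [-27804, 6688, -3244], [11144, -3244, 2996]] 2756,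
  .neg [0, -1, 1, 0, 0],
  .neg [-1, 1, 0, 0, 1],
  .neg [0, -1, 0, 0, 0]],
  .neg [-1, 0, 0, -1, 2]],
  .node [.neg [0, -1, 0, 1, 0],
  .neg [0, -1, 0, 0, 0],
  .node [.neg [-1, 1, 0, 1, 0],
  .neg [-1, 0, 1, 1, 0],
  .neg [-1, 0, 1, 0, 0],
  .neg [-1, 0, 1, 1, 0],
  .neg [0, -1, 0, 0, 0]],
  .node [.neg [-1, 0, 0, 1, 0],
  .neg [-1, 0, 0, 1, 0],
  .neg [-1, -1, 1, 1, 0],
  .leaf [[23, 12, 15, 18, 14], [12, 11, 7, 9, 5], [15, 7, 19, 10, 11], [18, 9, 10, 15, 12], [14, 5, 11, 12, 18]] [[-1, -1, -2, -1, 1], [1, 0, 1, 0, 0], [-2, -1, -1, 0, -1]] [[6727, -847, -1743, -6979, 721], [-847, 715, 123, 423, 103], [-1743, 123, 723, 1783, -309], [-6979, 423, 1783, 8031, -1133], [721, 103, -309, -1133, 515]] [[6580, 3388, -9702], [3388, 3964, -8636], [-9702, -8636, 21219]] 2884,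
  .neg [0, -1, 0, 0, 0]],
  .neg [-1, 1, 0, 2, -1],
  .neg [-1, 0, 1, 1, 0]]]],
  .node [.neg [-2, 1, 0, 0, 0],
  .neg [3, -3, 2, -2, 1],
  .neg [0, -1, 1, 0, 0],
  .neg [-1, 2, -2, 1, -1],
  .neg [-1, 2, -1, 0, 0]],
  .node [.neg [-2, 1, 0, 0, 0],
  .node [.neg [0, 0, -1, 0, 0],
  .neg [-1, 0, 0, 1, 0],
  .neg [0, -1, 1, 0, 0],
  .node [.neg [0, -1, 0, 1, 0],
  .neg [-1, 1, 0, 0, 0],
  .neg [-1, 0, 2, 0, 0],
  .node [.neg [-1, 0, 0, 2, -1],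
  .neg [-2, -1, 1, 2, 0],
  .neg [-1, 0, 0, 0, 1],
  .leaf [[20, 20, 12, 20, 16], [20, 27, 16, 20, 14], [12, 16, 11, 12, 10], [20, 20, 12, 23, 17], [16, 14, 10, 17, 16]] [[-1, 1, 1, 2, 4], [-2, 0, -4, -2, -1], [-2, -1, -1, 0, -1]] [[575, -460, 460, 0, -460], [-460, 644, -736, -184, 552], [460, -736, 964, 216, -648], [0, -184, 216, 224, -212], [-460, 552, -648, -212, 636]] [[11431, 12650, 2530], [12650, 22200, 2640], [2530, 2640, 1040]] 460,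
  .neg [-1, 1, 0, 0, 0]],
  .neg [0, -1, 1, 0, 0],
  .neg [0, 0, -1, 0, 0]],
  .neg [-1, 0, 0, 1, 0]],
  .neg [0, -1, 1, 0, 0],
  .neg [0, -1, 2, 0, 0],
  .neg [1, -4, 4, 1, -1]],
  .node [.neg [-2, 0, 1, 0, 0],
  .node [.neg [0, 0, -1, 0, 0],
  .neg [-1, 0, 0, 1, 0],
  .node [.neg [0, -1, 0, 1, 0],
  .neg [-1, 1, 0, 0, 0],
  .node [.neg [-1, 1, 0, 0, 0],
  .neg [3, -2, -1, 0, -1],
  .neg [-1, 0, 0, 0, 1],
  .neg [-1, 1, 0, 0, 0],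
  .neg [0, -1, 0, 0, 0]],
  .node [.neg [-2, 1, 0, 1, 0],
  .neg [-1, -1, 0, 2, 0],
  .neg [-2, -1, 1, 1, 1],
  .neg [-2, 2, -1, -1, 2],
  .neg [-1, 1, 0, 0, 0]],
  .neg [-1, 1, -1, 0, 1],
  .neg [0, 0, -1, 0, 1]],
  .node [.neg [0, 0, 0, -1, 1],
  .neg [-1, 1, 0, 0, 0],
  .node [.neg [0, 0, 0, -1, 1],
  .neg [3, -1, -2, -1, 0],
  .neg [-1, 0, 0, 0, 1],
  .neg [-1, 0, 0, 0, 1],
  .neg [-1, 1, 0, 0, 0]],
  .node [.neg [0, 0, 0, -1, 1],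
  .neg [2, 0, 0, -3, 1],
  .neg [-1, 0, 0, 0, 1],
  .leaf [[20, 16, 14, 20, 18], [16, 23, 10, 16, 14], [14, 10, 18, 14, 14], [20, 16, 14, 23, 19], [18, 14, 14, 19, 17]] [[-1, 1, 1, 2, 4], [-2, -2, -3, -2, 0], [-2, -1, -1, 0, -1]] [[1644, -144, 276, 396, -2292], [-144, 112, 0, -32, 96], [276, 0, 276, 276, -828], [396, -32, 276, 916, -1644], [-2292, 96, -828, -1644, 4932]] [[69912, 36696, 3960], [36696, 21556, 880], [3960, 880, 1792]] 1104,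
  .neg [-1, 1, 0, 0, 0]],
  .neg [-1, 1, 0, 1, -1],
  .neg [0, 0, -1, 0, 1]],
  .neg [-1, 0, 0, 1, 0]],
  .node [.neg [0, 0, -1, 0, 0],
  .neg [-1, 0, 0, 1, 0],
  .neg [-1, -1, 1, 1, 0],
  .neg [4, 3, -2, -2, -2],
  .neg [-1, 0, 0, 1, 0]],
  .node [.neg [0, 0, -1, 0, 0],
  .neg [-1, 0, -1, 0, 1],
  .node [.neg [0, -1, 0, 1, 0],
  .neg [0, -1, 0, 0, 0],
  .neg [-1, 0, 1, 0, 1],
  .node [.leaf [[20, 12, 8, 14, 12], [12, 11, 9, 10, 7], [8, 9, 14, 10, 9], [14, 10, 10, 17, 12], [12, 7, 9, 12, 11]] [[-1, 3, 0, 2, 3], [-2, -2, -3, -2, 0], [-2, -1, -1, 0, -1]] [[1028, -1340, 928, 528, -1604], [-1340, 1760, -1216, -696, 2096], [928, -1216, 848, 480, -1456], [528, -696, 480, 288, -840], [-1604, 2096, -1456, -840, 2528]] [[75620, 27648, 280], [27648, 10176, 96], [280, 96, 32]] 48,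
  .leaf [[20, 12, 8, 14, 12], [12, 15, 9, 14, 7], [8, 9, 13, 8, 8], [14, 14, 8, 17, 10], [12, 7, 8, 10, 10]] [[-1, 3, 0, 2, 3], [-2, -2, -3, -2, 0], [-2, -1, -1, 0, -1]] [[623, -1120, 728, 942, -1488], [-1120, 2144, -1376, -1824, 2768], [728, -1376, 912, 1168, -1808], [942, -1824, 1168, 1580, -2368], [-1488, 2768, -1808, -2368, 3680]] [[70759, 33258, -7234], [33258, 15820, -3404], [-7234, -3404, 876]] 176,
  .neg [-1, 0, 0, 0, 1],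
  .neg [-1, 1, 0, 0, 1],
  .neg [0, -1, 0, 0, 0]],
  .neg [-1, 1, -1, 0, 1],
  .neg [0, 0, -1, 0, 0]],
  .neg [0, 0, 0, -1, 2],
  .neg [-1, 0, 2, 2, -2]],
  .node [.neg [0, 0, -1, 0, 0],
  .neg [-1, 0, -1, 0, 1],
  .neg [0, -2, 0, 1, 0],
  .node [.neg [0, 0, 0, -1, 1],
  .neg [0, -1, 0, 0, 0],
  .neg [-1, 1, 0, 0, 1],
  .node [.leaf [[20, 8, 10, 14, 14], [8, 7, 6, 6, 6], [10, 6, 18, 12, 12], [14, 6, 12, 17, 14], [14, 6, 12, 14, 13]] [[-1, 1, 1, 2, 4], [-2, -2, -3, -2, 0], [-2, -1, -1, 0, -1]] [[666, -228, 362, 492, -1476], [-228, 404, -136, -96, 288], [362, -136, 404, 364, -1092], [492, -96, 364, 1124, -2032], [-1476, 288, -1092, -2032, 4756]] [[53494, 31402, -2450], [31402, 20836, -1680], [-2450, -1680, 980]] 1340,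
  .leaf [[20, 8, 10, 14, 14], [8, 11, 6, 10, 6], [10, 6, 17, 10, 11], [14, 10, 10, 17, 12], [14, 6, 11, 12, 12]] [[-1, 1, 1, 2, 4], [-2, -2, -3, -2, 0], [-2, -1, -1, 0, -1]] [[1833, -624, 894, 678, -3324], [-624, 996, -456, -888, 1536], [894, -456, 996, 564, -2292], [678, -888, 564, 1536, -2400], [-3324, 1536, -2292, -2400, 7908]] [[113181, 56184, 468], [56184, 31776, 252], [468, 252, 2592]] 3564,
  .neg [-1, 0, 0, 0, 1],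
  .neg [-1, 1, 0, 0, 1],
  .neg [0, -1, 0, 0, 0]],
  .node [.neg [0, 0, 0, -1, 1],
  .leaf [[20, 8, 10, 14, 14], [8, 7, 8, 6, 6], [10, 8, 16, 12, 11], [14, 6, 12, 17, 14], [14, 6, 11, 14, 13]] [[-1, 3, 0, 2, 3], [-2, -2, -3, -2, 0], [-2, -1, -1, 0, -1]] [[469, -344, 276, 158, -750], [-344, 644, -376, -8, 400], [276, -376, 404, 32, -500], [158, -8, 32, 656, -900], [-750, 400, -500, -900, 2100]] [[30025, 11610, -200], [11610, 8344, -680], [-200, -680, 800]] 1100,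
  .neg [-1, 0, 0, 0, 1],
  .neg [-1, 1, 0, 0, 1],
  .neg [0, -1, 0, 0, 0]],
  .neg [0, 0, -1, 0, 1]],
  .neg [-1, 0, 2, 2, -2]]]],
  .node [.node [.neg [-1, 0, 1, 0, 0],
  .neg [-2, 2, 1, 1, -1],
  .neg [0, -2, 0, 0, 1],
  .node [.neg [0, -1, 0, 0, 0],
  .neg [-1, 0, 0, 1, 0],
  .neg [0, -1, 0, 0, 0],
  .neg [-1, 0, 0, 0, 2],
  .neg [-1, 0, 1, 1, 0]],
  .neg [0, -1, 0, 0, 0]],
  .neg [-2, -1, 1, 1, 1],
  .neg [-1, -2, 0, 1, 1],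
  .node [.neg [-2, 0, 1, 0, 0],
  .node [.neg [2, 1, 2, -3, 0],
  .neg [-1, 0, 0, 1, 0],
  .neg [0, -2, 1, 1, 0],
  .node [.neg [0, -1, 0, 1, 0],
  .neg [-1, 1, 0, 0, 0],
  .neg [-2, 0, 1, 0, 1],
  .neg [-2, -1, 0, 2, 1],
  .neg [-1, -1, 1, 0, 1],
  .neg [0, 0, -1, -1, 1]],
  .neg [-1, 0, 0, 1, 0]],
  .neg [-1, -1, 0, 1, 1],
  .node [.neg [0, 0, -1, 0, 0],
  .neg [-1, -1, 0, 1, 0],
  .neg [0, -2, 1, 1, 0],
  .neg [-1, 0, 0, 0, 2],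
  .neg [4, 4, -3, -4, -2]],
  .neg [-1, -2, 1, 1, 0]],
  .neg [0, -1, 1, 0, 0],
  .neg [0, -1, 1, 0, 0],
  .node [.neg [-2, 0, 1, 0, 0],
  .node [.neg [0, 0, -1, 0, 0],
  .neg [-1, 0, 0, 1, 0],
  .neg [-1, -1, 1, 1, 0],
  .neg [-1, -1, 0, 0, 2],
  .neg [-1, 0, 0, 1, 0]],
  .neg [-1, -1, 0, 0, 1],
  .node [.neg [0, 0, -1, 0, 0],
  .neg [-1, -1, 0, 0, 1],
  .neg [0, -2, 0, 1, 0],
  .neg [-1, 0, 0, 0, 2],
  .neg [-2, -1, 2, 2, 0]],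
  .neg [-1, -2, 0, 1, 1]]],
  .node [.neg [-1, 1, 1, 0, 0],
  .neg [0, 0, -1, 0, -1],
  .node [.neg [3, 0, -2, 0, 0],
  .node [.neg [0, 0, -1, 0, 0],
  .neg [-1, 0, 0, 1, 0],
  .node [.neg [0, -1, 0, 1, 0],
  .neg [0, -1, 0, 0, 0],
  .neg [-1, 0, 0, 0, 2],
  .node [.neg [-1, 1, 0, 0, 1],
  .neg [-1, 0, 0, 1, 1],
  .neg [-1, 0, 0, 0, 1],
  .neg [-1, 0, 0, 0, 2],
  .neg [0, -1, 0, 0, 0]],
  .neg [0, -1, 1, 0, 0],
  .neg [0, 0, -1, -1, 0]],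
  .neg [-1, 0, 0, 0, 2],
  .neg [-1, 0, 1, 1, 0]],
  .neg [-1, -1, 0, 1, 1],
  .neg [0, 0, -1, 0, -1],
  .neg [-2, 2, 1, 0, 2]],
  .node [.neg [3, -1, -2, 0, 0],
  .node [.neg [0, 0, -1, 0, 0],
  .neg [-1, 0, 0, 1, 0],
  .node [.neg [0, -1, 0, 1, 0],
  .neg [0, -1, 0, 0, 0],
  .neg [-1, 0, 1, 0, 1],
  .neg [5652, -5136, 195, 234, -4596],
  .neg [-1, 1, 0, 0, 1],
  .neg [0, 0, -1, -1, 0]],
  .neg [-2, 0, 1, 0, 2],
  .neg [-1, 0, 1, 1, 0]],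
  .neg [-2, -1, 2, 1, 1],
  .neg [0, 0, -1, 0, -1],
  .neg [-2, 2, 1, 0, 2]],
  .node [.neg [3, -1, -2, 0, 0],
  .neg [1, -4, 3, -1, 2],
  .neg [0, -1, 1, 0, 0],
  .neg [0, 0, -1, 0, -1],
  .neg [-1, 2, 0, 0, 0]],
  .neg [0, -1, 2, 0, 0],
  .node [.neg [3, -1, -2, 0, 0],
  .node [.neg [0, 0, -1, 0, 0],
  .neg [-1, 0, 0, 1, 0],
  .node [.neg [0, -1, 0, 1, 0],
  .neg [0, -1, 0, 0, 0],
  .neg [0, 0, -1, 0, 0],
  .node [.neg [-1, 1, 0, 0, 1],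
  .neg [-1, 0, 1, 1, 0],
  .neg [0, 0, -1, 0, 0],
  .neg [-1, 0, 1, 0, 1],
  .neg [0, -1, 0, 0, 0]],
  .neg [-1, 1, 0, 0, 1],
  .neg [0, 0, -1, 0, 0]],
  .neg [-2, 0, 1, 0, 2],
  .neg [-1, 0, 1, 1, 0]],
  .neg [-1, -1, 2, 1, 0],
  .neg [0, 0, -1, 0, 0],
  .neg [-1, 1, 1, 0, 1]]],
  .node [.neg [0, -1, 0, 0, 0],
  .neg [-1, 1, 1, 0, 0],
  .neg [1, -4, 0, 0, 1],
  .node [.neg [-2, 1, 1, 0, 0],
  .node [.neg [0, -1, 0, 0, 0],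
  .neg [-1, 0, 0, 1, 0],
  .neg [0, -1, 0, 0, 0],
  .neg [-2, 2, 0, 0, 1],
  .neg [-1, 1, 0, 1, 0]],
  .neg [-1, -2, 1, 1, 0],
  .neg [-1, 2, 0, 0, 1],
  .neg [0, -1, 0, 0, 0]],
  .neg [-1, 2, 0, 0, 0],
  .neg [1815, -6534, 5082, 726, -1452],
  .neg [2299, -9922, -3872, -1210, 4114]]]]

theorem enumA : enumB f2 candsA = true := by decide +kernel

theorem enumBB : enumB f2B candsB = true := by decide +kernel

theorem checkA : check candsA [] treeA = true := by decide +kernel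

theorem checkB : check candsB [] treeB = true := by decide +kernel

theorem mnum : MNum := fun _ _ hcard D => mnum_of D rfl rfl enumA checkA hcard

theorem mnumB : MNumB := fun _ _ hcard D => mnum_of D rfl rfl enumBB checkB hcard

end Cfsg.Agent.H735.Gram.MN
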